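import Groth.Agent.DSPtsLib.Basic
import Mathlib.GroupTheory.Abelianization.Defs

/-!
# Points of diagonalisable groups over arbitrary schemes as characters
-/

universe u

set_option autoImplicit false
set_option backward.isDefEq.respectTransparency false
set_option backward.isDefEq.respectTransparency.types false
set_option linter.style.haveILetI false

open CategoryTheory CategoryTheory.Limits MonoidalCategory CartesianMonoidalCategory MonObj AlgebraicGeometry
open Opposite WithConv
open Groth.Agent.DSPtsLib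

namespace Groth.Agent.DualTw

variable {S : Scheme.{u}} {M : Type} [AddCommGroup M] {T T' : Over S}

/-- The ring map of a point. -/
noncomputable def ev (x : T ⟶ Red.DS S M) : CoordM.{u} M →+* Γ(T.left, ⊤) :=
  ((Scheme.ΓSpecIso (CommRingCat.of (CoordM.{u} M))).inv ≫ (x.left ≫ pullback.fst _ _).appTop).hom

/-- The character of a point. -/
noncomputable def chv (x : T ⟶ Red.DS S M) : Multiplicative M →* Γ(T.left, ⊤) :=
  ((ev x : CoordM.{u} M →+* Γ(T.left, ⊤)) : CoordM.{u} M →* Γ(T.left, ⊤)).comp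
    (MonoidAlgebra.of (ULift.{u} ℤ) (Multiplicative M))

theorem fst_eq (x : T ⟶ Red.DS S M) :
    x.left ≫ pullback.fst _ _ = T.left.toSpecΓ ≫ Spec.map (CommRingCat.ofHom (ev x)) := by
  haveI : IsAffine (Red.diag (ULift.{u} ℤ) M).left := inferInstanceAs (IsAffine (Spec (CommRingCat.of (CoordM.{u} M))))
  refine ext_of_isAffine ?_
  show (x.left ≫ pullback.fst _ _).appTop =
    (T.left.toSpecΓ ≫ Spec.map ((Scheme.ΓSpecIso (CommRingCat.of (CoordM.{u} M))).inv ≫
      (x.left ≫ pullback.fst _ _).appTop)).appTop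
  rw [Scheme.Hom.comp_appTop T.left.toSpecΓ, Scheme.toSpecΓ_appTop, Scheme.ΓSpecIso_naturality, Iso.hom_inv_id_assoc]

theorem hom_ext_ev {x y : T ⟶ Red.DS S M} (h : ev x = ev y) : x = y := by
  refine Over.OverMorphism.ext (pullback.hom_ext ?_ ((Over.w x).trans (Over.w y).symm))
  exact (fst_eq x).trans (h ▸ (fst_eq y).symm)

theorem ev_eq_of_chv {x y : T ⟶ Red.DS S M} (h : chv x = chv y) : ev x = ev y :=
  MonoidAlgebra.ringHom_ext (fun r => RingHom.congr_fun
    (ulift_ringHom_ext ((ev x).comp MonoidAlgebra.singleOneRingHom) ((ev y).comp MonoidAlgebra.singleOneRingHom)) r)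
    fun a => DFunLike.congr_fun h a

theorem chv_injective : Function.Injective (chv (T := T) (M := M)) := fun _ _ h => hom_ext_ev (ev_eq_of_chv h)

theorem exists_chv (c : Multiplicative M →* Γ(T.left, ⊤)) : ∃ x : T ⟶ Red.DS S M, chv x = c := by
  letI : Algebra (ULift.{u} ℤ) Γ(T.left, ⊤) := ((algebraMap ℤ _).comp ULift.ringEquiv.toRingHom).toAlgebra
  let f : CoordM.{u} M →+* Γ(T.left, ⊤) := (MonoidAlgebra.lift (ULift.{u} ℤ) _ (Multiplicative M) c).toRingHom
  refine ⟨Over.homMk (pullback.lift (T.left.toSpecΓ ≫ Spec.map (CommRingCat.ofHom f)) T.hom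
    (specULiftZIsTerminal.hom_ext _ _)) (pullback.lift_snd _ _ _), ?_⟩
  refine MonoidHom.ext fun a => ?_
  show ((Scheme.ΓSpecIso (CommRingCat.of (CoordM.{u} M))).inv ≫
    (pullback.lift _ T.hom _ ≫ pullback.fst _ _).appTop).hom (MonoidAlgebra.of (ULift.{u} ℤ) _ a) = c a
  rw [pullback.lift_fst, Scheme.Hom.comp_appTop, ← Scheme.ΓSpecIso_inv_naturality_assoc, Scheme.toSpecΓ_appTop,
    Iso.inv_hom_id, Category.comp_id]
  exact MonoidAlgebra.lift_of _ _

theorem chv_comp (g : T' ⟶ T) (x : T ⟶ Red.DS S M) (a : Multiplicative M) :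
    chv (g ≫ x) a = g.left.appTop (chv x a) := by
  show ((Scheme.ΓSpecIso (CommRingCat.of (CoordM.{u} M))).inv ≫ ((g ≫ x).left ≫ pullback.fst _ _).appTop).hom _ = _
  rw [Over.comp_left, Category.assoc, Scheme.Hom.comp_appTop, ← Category.assoc]
  rfl

/-- Multiplicativity. -/
theorem chv_mul (x y : T ⟶ Red.DS S M) (a : Multiplicative M) : chv (x * y) a = chv x a * chv y a := by
  letI : Algebra (ULift.{u} ℤ) Γ(T.left, ⊤) := ((algebraMap ℤ _).comp ULift.ringEquiv.toRingHom).toAlgebra
  let alg : (CoordM.{u} M →+* Γ(T.left, ⊤)) → (CoordM.{u} M →ₐ[ULift.{u} ℤ] Γ(T.left, ⊤)) := fun k =>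
    { k with commutes' := fun r => RingHom.congr_fun (ulift_ringHom_ext
        (k.comp (algebraMap (ULift.{u} ℤ) _)) (algebraMap (ULift.{u} ℤ) _)) r }
  let π : (Over.map (IsTerminal.from specULiftZIsTerminal S)).obj T ⟶
      GrpSchLib.AffineHopf.sp (ULift.{u} ℤ) Γ(T.left, ⊤) :=
    Over.homMk T.left.toSpecΓ (specULiftZIsTerminal.hom_ext _ _)
  have he : ∀ z : T ⟶ Red.DS S M, theta _ z = π ≫ GrpSchLib.AffineHopf.spMap (alg (ev z)) := fun z => by
    refine Over.OverMorphism.ext ?_
    rw [theta_left, Over.comp_left, fst_eq]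
    rfl
  have h := theta_mul (IsTerminal.from specULiftZIsTerminal S) x y
  rw [he, he, he, ← MonObj.comp_mul, GrpSchLib.AffineHopf.spMap_mul] at h
  have h' : T.left.toSpecΓ ≫ Spec.map (CommRingCat.ofHom (ev (x * y))) =
      T.left.toSpecΓ ≫ Spec.map (CommRingCat.ofHom
        ((toConv (alg (ev x)) * toConv (alg (ev y))).ofConv).toRingHom) := congrArg CommaMorphism.left h
  have h'' : ev (x * y) = ((toConv (alg (ev x)) * toConv (alg (ev y))).ofConv).toRingHom := by
    have := congrArg Scheme.Hom.appTop h'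
    rw [Scheme.Hom.comp_appTop, Scheme.Hom.comp_appTop, Scheme.toSpecΓ_appTop] at this
    have e := congrArg (fun q => (Scheme.ΓSpecIso (CommRingCat.of (CoordM.{u} M))).inv ≫ q) this
    simp only [← Scheme.ΓSpecIso_inv_naturality_assoc, Iso.inv_hom_id, Category.comp_id] at e
    exact congrArg (fun q => q.hom) e
  show ev (x * y) (MonoidAlgebra.single a 1) = _
  rw [h'']
  show ((toConv (alg (ev x)) * toConv (alg (ev y))).ofConv) (MonoidAlgebra.single a 1) = _
  rw [AlgHom.convMul_apply, MonoidAlgebra.comul_single]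
  simp [alg, chv]

/-- The unit of a point of the multiplicative group. -/
noncomputable def gmu (x : T ⟶ Red.Gm S) : Γ(T.left, ⊤)ˣ :=
  (chv x).toHomUnits (Multiplicative.ofAdd 1)

theorem gmu_val (x : T ⟶ Red.Gm S) : (gmu x : Γ(T.left, ⊤)) = chv x (Multiplicative.ofAdd 1) := rfl

theorem gmu_mul (x y : T ⟶ Red.Gm S) : gmu (x * y) = gmu x * gmu y := Units.ext (chv_mul x y _)

theorem gmu_comp (g : T' ⟶ T) (x : T ⟶ Red.Gm S) :
    gmu (g ≫ x) = Units.map (g.left.appTop.hom : Γ(T.left, ⊤) →* Γ(T'.left, ⊤)) (gmu x) := Units.ext (chv_comp g x _)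

theorem gmu_bijective : Function.Bijective (gmu (T := T)) := by
  refine ⟨fun x y h => chv_injective ?_, fun a => ?_⟩
  · have e : (chv x).toHomUnits = (chv y).toHomUnits := MonoidHom.ext_mint h
    exact MonoidHom.ext fun m => congrArg Units.val (DFunLike.congr_fun e m)
  · obtain ⟨x, hx⟩ := exists_chv ((Units.coeHom _).comp (zpowersHom _ a))
    refine ⟨x, Units.ext ?_⟩
    rw [gmu_val, hx]
    simp

theorem gm_comm (x y : T ⟶ Red.Gm S) : x * y = y * x :=
  gmu_bijective.1 (by rw [gmu_mul, gmu_mul, _root_.mul_comm])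

section Abstract

variable (G : Type) [Group G]

/-- A point of the character group of an abstract group as a multiplicative family of points of `𝔾ₘ`. -/
noncomputable def charPt (a : T ⟶ Red.DS S (Additive (Abelianization G))) (m : G) : T ⟶ Red.Gm S :=
  (Equiv.ofBijective _ gmu_bijective).symm ((chv a).toHomUnits (Multiplicative.ofAdd (Additive.ofMul (Abelianization.of m))))

variable {G}

theorem gmu_charPt (a : T ⟶ Red.DS S (Additive (Abelianization G))) (m : G) :
    gmu (charPt G a m) = (chv a).toHomUnits (Multiplicative.ofAdd (Additive.ofMul (Abelianization.of m))) :=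
  (Equiv.ofBijective _ gmu_bijective).apply_symm_apply _

theorem charPt_mul_right (a : T ⟶ Red.DS S (Additive (Abelianization G))) (m n : G) :
    charPt G a (m * n) = charPt G a m * charPt G a n := by
  refine gmu_bijective.1 ?_
  rw [gmu_mul, gmu_charPt, gmu_charPt, gmu_charPt]
  exact (congrArg _ (by rw [map_mul]; rfl)).trans (map_mul (chv a).toHomUnits _ _)

theorem charPt_mul_left (a b : T ⟶ Red.DS S (Additive (Abelianization G))) (m : G) :
    charPt G (a * b) m = charPt G a m * charPt G b m := by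
  refine gmu_bijective.1 ?_
  rw [gmu_mul, gmu_charPt, gmu_charPt, gmu_charPt]
  exact Units.ext (chv_mul a b _)

theorem charPt_comp (g : T' ⟶ T) (a : T ⟶ Red.DS S (Additive (Abelianization G))) (m : G) :
    charPt G (g ≫ a) m = g ≫ charPt G a m := by
  refine gmu_bijective.1 ?_
  rw [gmu_comp, gmu_charPt, gmu_charPt]
  exact Units.ext (chv_comp g a _)

theorem charPt_injective {a b : T ⟶ Red.DS S (Additive (Abelianization G))}
    (h : ∀ m, charPt G a m = charPt G b m) : a = b := by
  refine chv_injective (MonoidHom.ext fun q => ?_)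
  obtain ⟨m, hm⟩ : ∃ m : G, q = Multiplicative.ofAdd (Additive.ofMul (Abelianization.of m)) := by
    obtain ⟨m, hm⟩ := QuotientGroup.mk_surjective (Additive.toMul (Multiplicative.toAdd q))
    exact ⟨m, hm.symm⟩
  subst hm
  have := congrArg (fun z => ((gmu z : Γ(T.left, ⊤)ˣ) : Γ(T.left, ⊤))) (h m)
  simpa [gmu_charPt] using this

theorem exists_charPt (c : G → (T ⟶ Red.Gm S)) (hc : ∀ m n, c (m * n) = c m * c n) :
    ∃ a : T ⟶ Red.DS S (Additive (Abelianization G)), ∀ m, charPt G a m = c m := by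
  let χ : G →* Γ(T.left, ⊤)ˣ := MonoidHom.mk' (fun m => gmu (c m)) fun m n => by rw [hc, gmu_mul]
  obtain ⟨a, ha⟩ := exists_chv (M := Additive (Abelianization G)) (T := T)
    (((Units.coeHom _).comp (Abelianization.lift χ)).comp
      (MonoidHom.mk' (fun q : Multiplicative (Additive (Abelianization G)) => Additive.toMul (Multiplicative.toAdd q))
        fun _ _ => rfl))
  refine ⟨a, fun m => gmu_bijective.1 (Units.ext ?_)⟩
  rw [gmu_charPt, MonoidHom.coe_toHomUnits, ha]
  simp [χ]

end Abstract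

end Groth.Agent.DualTw
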