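import Groth.Agent.DualTw.Local
import Mathlib.CategoryTheory.Monoidal.Cartesian.Grp

/-!
# Families of characters
-/

universe u

set_option autoImplicit false
set_option backward.isDefEq.respectTransparency false
set_option backward.isDefEq.respectTransparency.types false
set_option linter.style.haveILetI false

open CategoryTheory CategoryTheory.Limits MonoidalCategory CartesianMonoidalCategory MonObj AlgebraicGeometry
open Opposite
open Groth.Agent.DSPtsLib

namespace Groth.Agent.DualTw

variable {S : Scheme.{u}} (R : Over S) [GrpObj R]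

theorem isHomFamily_comp {T T' : Over S} (g : T' ⟶ T) {φ : R ⊗ T ⟶ Red.Gm S}
    (hφ : AutFam.IsHomFamily R (Red.Gm S) φ) : AutFam.IsHomFamily R (Red.Gm S) ((R ◁ g) ≫ φ) := by
  intro Y g₁ g₂ t
  simp only [lift_whiskerLeft_assoc]
  exact hφ Y g₁ g₂ (t ≫ g)

/-- Families of homomorphisms to a commutative group. -/
def famOf (H : Over S) [GrpObj H] (hc : ∀ {T : Over S} (x y : T ⟶ H), x * y = y * x) (T : Over S) :
    Subgroup (R ⊗ T ⟶ H) where
  carrier := {φ | AutFam.IsHomFamily R H φ}
  one_mem' := fun Y g₁ g₂ t => by simp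
  mul_mem' := fun {a b} ha hb Y g₁ g₂ t => by
    rw [MonObj.comp_mul, MonObj.comp_mul, MonObj.comp_mul, ha Y g₁ g₂ t, hb Y g₁ g₂ t, _root_.mul_assoc,
      _root_.mul_assoc, ← _root_.mul_assoc (lift g₂ t ≫ a), hc (lift g₂ t ≫ a), _root_.mul_assoc]
  inv_mem' := fun {a} ha Y g₁ g₂ t => by
    rw [GrpObj.comp_inv, GrpObj.comp_inv, GrpObj.comp_inv, ha Y g₁ g₂ t, _root_.mul_inv_rev, hc]

theorem gm_comm' : ∀ {T' : Over S} (x y : T' ⟶ Red.Gm S), x * y = y * x := fun x y => gm_comm x y

/-- The characters parametrised by a scheme. -/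
noncomputable abbrev fam (T : Over S) : Subgroup (R ⊗ T ⟶ Red.Gm S) :=
  famOf R (Red.Gm S) (by exact gm_comm') T

/-- The presheaf of characters. -/
noncomputable def famFunctor : (Over S)ᵒᵖ ⥤ GrpCat.{u} where
  obj T := GrpCat.of (fam R T.unop)
  map {T T'} g := GrpCat.ofHom (MonoidHom.mk' (fun φ : fam R T.unop =>
      (⟨(R ◁ g.unop) ≫ φ.1, isHomFamily_comp R g.unop φ.2⟩ : fam R T'.unop))
    fun a b => Subtype.ext (MonObj.comp_mul _ _ _))
  map_id T := by
    refine GrpCat.hom_ext (MonoidHom.ext fun φ => ?_)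
    refine Subtype.ext ?_
    show (R ◁ 𝟙 T.unop) ≫ φ.1 = φ.1
    rw [whiskerLeft_id, Category.id_comp]
  map_comp {A B C} g h := by
    refine GrpCat.hom_ext (MonoidHom.ext fun φ => ?_)
    refine Subtype.ext ?_
    show (R ◁ (h.unop ≫ g.unop)) ≫ φ.1 = (R ◁ h.unop) ≫ (R ◁ g.unop) ≫ φ.1
    rw [whiskerLeft_comp, Category.assoc]

variable {R}

section Theta

variable {X : Scheme.{u}} {f : X ⟶ S} {M : Type} [Group M] (e : Red.bc f R ≅ TwC.const X M)
  (he : TwC.IsConstGrp M (Red.bc f R) e)

include he in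
theorem exists_family_of_pt {T : Over S} (x : T.left ⟶ X) (h : x ≫ f = T.hom)
    (a : T ⟶ Red.DS S (Additive (Abelianization M))) :
    ∃ φ : fam R T, ∀ m, lift (sT e x h m) (𝟙 T) ≫ φ.1 = charPt M a m := by
  obtain ⟨φ, h1, h2⟩ := exists_family e he x h (charPt M a) (charPt_mul_right a)
  exact ⟨⟨φ, h1⟩, h2⟩

/-- The character attached to a point of the dual group. -/
noncomputable def toFam {T : Over S} (x : T.left ⟶ X) (h : x ≫ f = T.hom)
    (a : T ⟶ Red.DS S (Additive (Abelianization M))) : fam R T :=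
  (exists_family_of_pt e he x h a).choose

theorem toFam_val {T : Over S} (x : T.left ⟶ X) (h : x ≫ f = T.hom)
    (a : T ⟶ Red.DS S (Additive (Abelianization M))) (m : M) :
    lift (sT e x h m) (𝟙 T) ≫ (toFam e he x h a).1 = charPt M a m :=
  (exists_family_of_pt e he x h a).choose_spec m

theorem toFam_bijective {T : Over S} (x : T.left ⟶ X) (h : x ≫ f = T.hom) :
    Function.Bijective (toFam e he x h) := by
  refine ⟨fun a b e1 => charPt_injective fun m => ?_, fun φ => ?_⟩
  · rw [← toFam_val e he x h a, e1, toFam_val]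
  · obtain ⟨a, ha⟩ := exists_charPt (fun m => lift (sT e x h m) (𝟙 T) ≫ φ.1) fun m n => by
      rw [sT_mul e he]
      exact φ.2 T _ _ _
    exact ⟨a, Subtype.ext (family_ext e x h fun m => by rw [toFam_val, ha])⟩

theorem toFam_mul {T : Over S} (x : T.left ⟶ X) (h : x ≫ f = T.hom)
    (a b : T ⟶ Red.DS S (Additive (Abelianization M))) :
    toFam e he x h (a * b) = toFam e he x h a * toFam e he x h b := by
  refine Subtype.ext (family_ext e x h fun m => ?_)
  rw [Subgroup.coe_mul, MonObj.comp_mul, toFam_val, toFam_val, toFam_val, charPt_mul_left]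

theorem toFam_nat {T T' : Over S} (g : T' ⟶ T) (x : T.left ⟶ X) (h : x ≫ f = T.hom) (y : T'.left ⟶ X)
    (k : y ≫ f = T'.hom) (hy : g.left ≫ x = y) (a : T ⟶ Red.DS S (Additive (Abelianization M))) :
    (toFam e he y k (g ≫ a)).1 = (R ◁ g) ≫ (toFam e he x h a).1 := by
  refine family_ext e y k fun m => ?_
  rw [toFam_val, lift_whiskerLeft_assoc, Category.id_comp, charPt_comp, ← toFam_val e he x h a m, comp_lift_assoc,
    Category.comp_id, sT_comp e g x h y k hy]

end Theta

end Groth.Agent.DualTw
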