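import Groth.Agent.DualTw.Pairing
import Groth.Prelude.Def_TwC
import Groth.Prelude.Def_AutFam

/-!
# Homomorphisms between groups which are diagonalisable over a scheme over the base

With `H` and `G` isomorphic to `D(M_H)` and `D(M_G)` over `X` and `M_G` finitely generated, families of homomorphisms
`H ⟶ G` over an `X`-scheme `T` are the morphisms of `T` to the constant scheme on `Hom(M_G, M_H)`.
-/

universe u

set_option autoImplicit false
set_option backward.isDefEq.respectTransparency false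
set_option backward.isDefEq.respectTransparency.types false
set_option linter.style.haveILetI false

open CategoryTheory CategoryTheory.Limits MonoidalCategory CartesianMonoidalCategory MonObj AlgebraicGeometry
open Groth.Agent.DSPtsLib

namespace Groth.Agent.DualTw

variable {S : Scheme.{u}} {MH MG : Type} [AddCommGroup MH] [AddCommGroup MG] {X : Scheme.{u}} {f : X ⟶ S}

theorem exists_push {Y : Over S} (i : MG →+ MH) (g : Y ⟶ Red.DS S MH) :
    ∃ z : Y ⟶ Red.DS S MG, chv z = (chv g).comp (AddMonoidHom.toMultiplicative i) := exists_chv _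

/-- The image of a point under the map of diagonalisable groups given by a map of character groups. -/
noncomputable def push {Y : Over S} (i : MG →+ MH) (g : Y ⟶ Red.DS S MH) : Y ⟶ Red.DS S MG := (exists_push i g).choose

theorem chv_push {Y : Over S} (i : MG →+ MH) (g : Y ⟶ Red.DS S MH) (b : MG) :
    chv (push i g) (Multiplicative.ofAdd b) = chv g (Multiplicative.ofAdd (i b)) :=
  DFunLike.congr_fun (exists_push i g).choose_spec _

theorem ds_ext {Y : Over S} {z z' : Y ⟶ Red.DS S MG}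
    (h : ∀ b, chv z (Multiplicative.ofAdd b) = chv z' (Multiplicative.ofAdd b)) : z = z' :=
  chv_injective (MonoidHom.ext fun q => h q.toAdd)

theorem push_comp {Y Y' : Over S} (k : Y' ⟶ Y) (i : MG →+ MH) (g : Y ⟶ Red.DS S MH) :
    push i (k ≫ g) = k ≫ push i g :=
  ds_ext fun b => by rw [chv_push, chv_comp, chv_comp, chv_push]

theorem push_mul {Y : Over S} (i : MG →+ MH) (g g' : Y ⟶ Red.DS S MH) : push i (g * g') = push i g * push i g' :=
  ds_ext fun b => by rw [chv_push, chv_mul, chv_mul, chv_push, chv_push]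

theorem push_add {Y : Over S} (i j : MG →+ MH) (g : Y ⟶ Red.DS S MH) : push (i + j) g = push i g * push j g :=
  ds_ext fun b => by rw [chv_push, chv_mul, chv_push, chv_push, AddMonoidHom.add_apply, ofAdd_add, map_mul]

/-- Compatible identifications of the points of two groups on schemes over `X`. -/
structure PtIso (f : X ⟶ S) (H H' : Over S) [GrpObj H] [GrpObj H'] where
  /-- the identifications -/
  τ : ∀ ⦃Y : Over S⦄ (y : Y.left ⟶ X), y ≫ f = Y.hom → ((Y ⟶ H) ≃* (Y ⟶ H'))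
  nat : ∀ ⦃Y Y' : Over S⦄ (k : Y' ⟶ Y) (y : Y.left ⟶ X) (h : y ≫ f = Y.hom) (y' : Y'.left ⟶ X)
    (h' : y' ≫ f = Y'.hom), k.left ≫ y = y' → ∀ g, τ y' h' (k ≫ g) = k ≫ τ y h g

section OfIso

variable {H H' : Over S}

/-- A point as a point of the base change. -/
noncomputable def toBc {Y : Over S} (y : Y.left ⟶ X) (h : y ≫ f = Y.hom) (g : Y ⟶ H) : Over.mk y ⟶ Red.bc f H :=
  Over.homMk (pullback.lift g.left y (by rw [Over.w g, h])) (pullback.lift_snd _ _ _)

/-- A scheme over `X` seen over the base. -/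
noncomputable def jMap {Y : Over S} (y : Y.left ⟶ X) (h : y ≫ f = Y.hom) : Y ⟶ (Over.map f).obj (Over.mk y) :=
  Over.homMk (𝟙 Y.left) (by
    show 𝟙 Y.left ≫ y ≫ f = Y.hom
    rw [Category.id_comp, h])

/-- A point of the base change as a point. -/
noncomputable def ofBc {Y : Over S} (y : Y.left ⟶ X) (h : y ≫ f = Y.hom) (a : Over.mk y ⟶ Red.bc f H) : Y ⟶ H :=
  jMap y h ≫ theta f a

theorem ofBc_left {Y : Over S} (y : Y.left ⟶ X) (h : y ≫ f = Y.hom) (a : Over.mk y ⟶ Red.bc f H) :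
    (ofBc y h a).left = a.left ≫ pullback.fst H.hom f := by
  rw [ofBc, Over.comp_left, theta_left]
  exact Category.id_comp _

theorem ofBc_toBc {Y : Over S} (y : Y.left ⟶ X) (h : y ≫ f = Y.hom) (g : Y ⟶ H) : ofBc y h (toBc y h g) = g :=
  Over.OverMorphism.ext ((ofBc_left y h _).trans (pullback.lift_fst _ _ _))

theorem toBc_ofBc {Y : Over S} (y : Y.left ⟶ X) (h : y ≫ f = Y.hom) (a : Over.mk y ⟶ Red.bc f H) :
    toBc y h (ofBc y h a) = a :=
  Over.OverMorphism.ext (pullback.hom_ext ((pullback.lift_fst _ _ _).trans (ofBc_left y h a))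
    ((pullback.lift_snd _ _ _).trans (Over.w a).symm))

theorem ofBc_mul [GrpObj H] {Y : Over S} (y : Y.left ⟶ X) (h : y ≫ f = Y.hom) (a b : Over.mk y ⟶ Red.bc f H) :
    ofBc y h (a * b) = ofBc y h a * ofBc y h b := by
  rw [ofBc, theta_mul, MonObj.comp_mul]
  rfl

theorem toBc_mul [GrpObj H] {Y : Over S} (y : Y.left ⟶ X) (h : y ≫ f = Y.hom) (a b : Y ⟶ H) :
    toBc y h (a * b) = toBc y h a * toBc y h b :=
  (Function.LeftInverse.injective (g := toBc (H := H) y h) (toBc_ofBc y h)) (by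
    rw [ofBc_mul, ofBc_toBc, ofBc_toBc, ofBc_toBc])

/-- The identifications given by an isomorphism of base changes. -/
noncomputable def PtIso.ofIso [GrpObj H] [GrpObj H'] (E : Grp.mk (Red.bc f H) ≅ Grp.mk (Red.bc f H')) :
    PtIso f H H' where
  τ Y y h :=
    { toFun := fun g => ofBc y h (toBc y h g ≫ E.hom.hom.hom)
      invFun := fun g => ofBc y h (toBc y h g ≫ E.inv.hom.hom)
      left_inv := fun g => by
        show ofBc y h (toBc y h (ofBc y h (toBc y h g ≫ E.hom.hom.hom)) ≫ E.inv.hom.hom) = g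
        rw [toBc_ofBc, Category.assoc, ← Grp.comp_hom_hom, E.hom_inv_id]
        exact (congrArg (ofBc y h) (Category.comp_id _)).trans (ofBc_toBc y h g)
      right_inv := fun g => by
        show ofBc y h (toBc y h (ofBc y h (toBc y h g ≫ E.inv.hom.hom)) ≫ E.hom.hom.hom) = g
        rw [toBc_ofBc, Category.assoc, ← Grp.comp_hom_hom, E.inv_hom_id]
        exact (congrArg (ofBc y h) (Category.comp_id _)).trans (ofBc_toBc y h g)
      map_mul' := fun g g' => by
        rw [toBc_mul]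
        exact (congrArg (ofBc y h) (MonObj.mul_comp _ _ E.hom.hom.hom)).trans (ofBc_mul y h _ _) }
  nat Y Y' k y h y' h' hy g := by
    refine Over.OverMorphism.ext ?_
    show (ofBc y' h' (toBc y' h' (k ≫ g) ≫ E.hom.hom.hom)).left = k.left ≫ (ofBc y h (toBc y h g ≫ E.hom.hom.hom)).left
    rw [ofBc_left, ofBc_left, ← Category.assoc k.left]
    refine congrArg (· ≫ pullback.fst H'.hom f) ?_
    show (toBc y' h' (k ≫ g)).left ≫ E.hom.hom.hom.left = k.left ≫ (toBc y h g).left ≫ E.hom.hom.hom.left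
    rw [← Category.assoc k.left]
    refine congrArg (· ≫ E.hom.hom.hom.left) (pullback.hom_ext ?_ ?_)
    · exact (pullback.lift_fst _ _ _).trans ((Category.assoc _ _ _).trans (congrArg (k.left ≫ ·) (pullback.lift_fst _ _ _))).symm
    · exact (pullback.lift_snd _ _ _).trans (((Category.assoc _ _ _).trans (congrArg (k.left ≫ ·) (pullback.lift_snd _ _ _))).trans hy).symm

end OfIso

theorem PtIso.symm_nat {H H' : Over S} [GrpObj H] [GrpObj H'] (e : PtIso f H H') {Y Y' : Over S} (k : Y' ⟶ Y)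
    (y : Y.left ⟶ X) (h : y ≫ f = Y.hom) (y' : Y'.left ⟶ X) (h' : y' ≫ f = Y'.hom) (hy : k.left ≫ y = y')
    (g : Y ⟶ H') : (e.τ y' h').symm (k ≫ g) = k ≫ (e.τ y h).symm g := by
  apply (e.τ y' h').injective
  rw [MulEquiv.apply_symm_apply, e.nat k y h y' h' hy, MulEquiv.apply_symm_apply]

section Index

variable {I : Type u} {T : Over S}

/-- The locus of an index. -/
noncomputable def locus (a : T ⟶ TwC.const S I) (i : I) : T.left.Opens :=
  a.left ⁻¹ᵁ (Sigma.ι (fun _ : I => S) i).opensRange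

theorem exists_mem_locus (a : T ⟶ TwC.const S I) (p : T.left) : ∃ i, p ∈ locus a i := by
  obtain ⟨q, hq⟩ := (sigmaOpenCover (fun _ : I => S)).covers (a.left p)
  exact ⟨_, q, hq⟩

theorem locus_unique (a : T ⟶ TwC.const S I) {i j : I} {p : T.left} (hi : p ∈ locus a i) (hj : p ∈ locus a j) :
    i = j := by
  obtain ⟨q, hq⟩ := hi
  obtain ⟨r, hr⟩ := hj
  exact (Sigma.mk.inj ((sigmaι_eq_iff (fun _ : I => S) i j q r).1 (hq.trans hr.symm))).1

theorem locus_comp {T' : Over S} (k : T' ⟶ T) (a : T ⟶ TwC.const S I) (i : I) :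
    locus (k ≫ a) i = k.left ⁻¹ᵁ locus a i := rfl

theorem left_eq_of_range (a : T ⟶ TwC.const S I) (i : I) {T' : Over S} (k : T' ⟶ T)
    (hk : Set.range k.left ⊆ locus a i) : k.left ≫ a.left = T'.hom ≫ Sigma.ι (fun _ : I => S) i := by
  have hr : Set.range (k.left ≫ a.left) ⊆ Set.range (Sigma.ι (fun _ : I => S) i) := by
    rintro _ ⟨p, rfl⟩
    exact hk ⟨p, rfl⟩
  have hl : IsOpenImmersion.lift (Sigma.ι (fun _ : I => S) i) (k.left ≫ a.left) hr ≫ Sigma.ι (fun _ : I => S) i =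
      k.left ≫ a.left := IsOpenImmersion.lift_fac _ _ _
  rw [← hl]
  refine congrArg (· ≫ Sigma.ι (fun _ : I => S) i) ?_
  have := congrArg (fun z => z ≫ Sigma.desc fun _ : I => 𝟙 S) hl
  simp only [Category.assoc, Sigma.ι_desc, Category.comp_id] at this
  rw [this, show a.left ≫ (Sigma.desc fun _ : I => 𝟙 S) = T.hom from Over.w a, Over.w k]

theorem locus_pt_top (i : I) : locus (toUnit T ≫ TwC.pt S I i) i = ⊤ :=
  top_le_iff.1 fun p _ => ⟨(toUnit T).left p, rfl⟩

theorem hom_ext_locus (a : T ⟶ TwC.const S I) {Y Z : Over S} (t : Y ⟶ T) {v w : Y ⟶ Z}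
    (h : ∀ (Y' : Over S) (k : Y' ⟶ Y) (i : I), Set.range (k ≫ t).left ⊆ locus a i → k ≫ v = k ≫ w) : v = w := by
  refine Over.OverMorphism.ext (Scheme.Cover.hom_ext (Y.left.openCoverOfIsOpenCover (fun i => t.left ⁻¹ᵁ locus a i)
    (TopologicalSpace.IsOpenCover.mk (top_le_iff.1 fun p _ => ?_))) _ _ fun i => ?_)
  · obtain ⟨i, hi⟩ := exists_mem_locus a (t.left p)
    exact TopologicalSpace.Opens.mem_iSup.2 ⟨i, hi⟩
  · exact congrArg CommaMorphism.left (h (Over.mk ((t.left ⁻¹ᵁ locus a i).ι ≫ Y.hom)) (Over.homMk (t.left ⁻¹ᵁ locus a i).ι rfl) i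
      (by rintro _ ⟨p, rfl⟩; exact p.2))

end Index

/-- The index type. -/
abbrev HomIdx (MH MG : Type) [AddCommGroup MH] [AddCommGroup MG] : Type u := ULift.{u} (MG →+ MH)

section Valid

variable {H G : Over S} [GrpObj H] [GrpObj G] (eH : PtIso f H (Red.DS S MH)) (eG : PtIso f G (Red.DS S MG))
  {T : Over S} (x : T.left ⟶ X) (hx : x ≫ f = T.hom)

include hx in
theorem over_x {Y : Over S} (t : Y ⟶ T) : (t.left ≫ x) ≫ f = Y.hom := by rw [Category.assoc, hx, Over.w]

/-- A family is given by `i` over an open. -/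
def Valid (φ : H ⊗ T ⟶ G) (V : T.left.Opens) (i : MG →+ MH) : Prop :=
  ∀ (Y : Over S) (g : Y ⟶ H) (t : Y ⟶ T), Set.range t.left ⊆ V →
    eG.τ (t.left ≫ x) (over_x x hx t) (lift g t ≫ φ) = push i (eH.τ (t.left ≫ x) (over_x x hx t) g)

/-- A family corresponds to a point of the constant scheme. -/
def Rel (a : T ⟶ TwC.const S (HomIdx.{u} MH MG)) (φ : H ⊗ T ⟶ G) : Prop :=
  ∀ i, Valid eH eG x hx φ (locus a i) i.down

variable {eH eG x hx}

theorem Valid.unique {φ : H ⊗ T ⟶ G} {V W : T.left.Opens} {i j : MG →+ MH} (hi : Valid eH eG x hx φ V i)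
    (hj : Valid eH eG x hx φ W j) {p : T.left} (hpV : p ∈ V) (hpW : p ∈ W) : i = j := by
  refine AddMonoidHom.ext fun b => eq_of_chv_eq (S := S) T p fun Y g t ht => ?_
  have h1 := hi Y ((eH.τ (t.left ≫ x) (over_x x hx t)).symm g) t (ht.trans (Set.singleton_subset_iff.2 hpV))
  have h2 := hj Y ((eH.τ (t.left ≫ x) (over_x x hx t)).symm g) t (ht.trans (Set.singleton_subset_iff.2 hpW))
  rw [MulEquiv.apply_symm_apply] at h1 h2
  rw [← chv_push, ← chv_push, ← h1, h2]

variable (eH eG x hx)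

/-- The pairing of a family and a character of `G`. -/
noncomputable def famPairing (φ : H ⊗ T ⟶ G) (hφ : AutFam.IsHomFamily H G φ) (b : MG) : Pairing MH T where
  val Y g t := chv (eG.τ (t.left ≫ x) (over_x x hx t)
    (lift ((eH.τ (t.left ≫ x) (over_x x hx t)).symm g) t ≫ φ)) (Multiplicative.ofAdd b)
  nat Y Y' k g t := by
    have hy : k.left ≫ t.left ≫ x = (k ≫ t).left ≫ x := (Category.assoc _ _ _).symm
    rw [eH.symm_nat k (t.left ≫ x) (over_x x hx t) _ (over_x x hx (k ≫ t)) hy, ← comp_lift_assoc,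
      eG.nat k (t.left ≫ x) (over_x x hx t) _ (over_x x hx (k ≫ t)) hy, chv_comp]
  mul Y g₁ g₂ t := by rw [map_mul, hφ Y, map_mul, chv_mul]
  unit Y g t := IsUnit.map _ (Group.isUnit (Multiplicative.ofAdd b))

variable {eH eG x hx}

theorem exists_valid [hMG : AddGroup.FG MG] (φ : H ⊗ T ⟶ G) (hφ : AutFam.IsHomFamily H G φ) (p : T.left) :
    ∃ (V : T.left.Opens) (i : MG →+ MH), p ∈ V ∧ Valid eH eG x hx φ V i := by
  classical
  choose W m hpW hW using fun b => (famPairing eH eG x hx φ hφ b).exists_local p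
  have hsub : ∀ b, ({p} : Set T.left) ⊆ W b := fun b => Set.singleton_subset_iff.2 (hpW b)
  have hadd : ∀ b c, m (b + c) = m b + m c := fun b c => eq_of_chv_eq (S := S) T p fun Y g t ht => by
    rw [← hW (b + c) Y g t (ht.trans (hsub _)), ofAdd_add, map_mul, ← hW b Y g t (ht.trans (hsub _)),
      ← hW c Y g t (ht.trans (hsub _))]
    exact map_mul _ _ _
  obtain ⟨s, hs⟩ := hMG.out
  refine ⟨s.inf W, AddMonoidHom.mk' m hadd, Finset.inf_induction (p := fun V => p ∈ V) trivial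
    (fun V₁ h₁ V₂ h₂ => ⟨h₁, h₂⟩) (fun b _ => hpW b), fun Y g t ht => ds_ext fun b => ?_⟩
  refine DFunLike.congr_fun (?_ : (chv (eG.τ (t.left ≫ x) (over_x x hx t) (lift g t ≫ φ))) =
    chv (push (AddMonoidHom.mk' m hadd) (eH.τ (t.left ≫ x) (over_x x hx t) g))) (Multiplicative.ofAdd b)
  refine MonoidHom.ext fun q => ?_
  have hq : q.toAdd ∈ AddSubgroup.closure (s : Set MG) := hs ▸ AddSubgroup.mem_top _
  suffices h : ∀ c ∈ AddSubgroup.closure (s : Set MG),
      (chv (eG.τ (t.left ≫ x) (over_x x hx t) (lift g t ≫ φ))).toHomUnits (Multiplicative.ofAdd c) =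
        (chv (push (AddMonoidHom.mk' m hadd) (eH.τ (t.left ≫ x) (over_x x hx t) g))).toHomUnits (Multiplicative.ofAdd c) from
    congrArg Units.val (h _ hq)
  intro c hc
  induction hc using AddSubgroup.closure_induction with
  | mem c hc =>
    refine Units.ext ?_
    have h1 := hW c Y (eH.τ (t.left ≫ x) (over_x x hx t) g) t (ht.trans (SetLike.coe_subset_coe.2 (Finset.inf_le (f := W) (Finset.mem_coe.1 hc))))
    show chv _ _ = chv _ _
    rw [chv_push, AddMonoidHom.mk'_apply, ← h1]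
    show _ = chv (eG.τ _ _ (lift ((eH.τ _ _).symm (eH.τ _ _ g)) t ≫ φ)) _
    rw [MulEquiv.symm_apply_apply]
  | zero => rw [ofAdd_zero, map_one, map_one]
  | add c d _ _ h1 h2 => rw [ofAdd_add, map_mul, map_mul, h1, h2]
  | neg c _ h1 => rw [ofAdd_neg, map_inv, map_inv, h1]

theorem rel_unique_left {φ : H ⊗ T ⟶ G} {a a' : T ⟶ TwC.const S (HomIdx.{u} MH MG)}
    (h : Rel eH eG x hx a φ) (h' : Rel eH eG x hx a' φ) : a = a' := by
  refine hom_ext_locus a (𝟙 T) fun Y k i hk => Over.OverMorphism.ext ?_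
  rw [Category.comp_id] at hk
  have hk' : Set.range k.left ⊆ locus a' i := by
    rintro q hq
    obtain ⟨j, hj⟩ := exists_mem_locus a' q
    rwa [ULift.ext i j ((h i).unique (h' j) (hk hq) hj)]
  rw [Over.comp_left, Over.comp_left, left_eq_of_range a i k hk, left_eq_of_range a' i k hk']

theorem exists_rel_left [AddGroup.FG MG] (φ : H ⊗ T ⟶ G) (hφ : AutFam.IsHomFamily H G φ) :
    ∃ a, Rel eH eG x hx a φ := by
  choose V i hp hv using exists_valid (eH := eH) (eG := eG) (x := x) (hx := hx) φ hφ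
  let 𝒰 := T.left.openCoverOfIsOpenCover V (TopologicalSpace.IsOpenCover.mk
    (top_le_iff.1 fun p _ => TopologicalSpace.Opens.mem_iSup.2 ⟨p, hp p⟩))
  let g : ∀ p, (V p : Scheme.{u}) ⟶ (TwC.const S (HomIdx.{u} MH MG)).left :=
    fun p => (V p).ι ≫ T.hom ≫ Sigma.ι (fun _ : HomIdx.{u} MH MG => S) (ULift.up.{u} (i p))
  have hcompat : ∀ p q, pullback.fst (𝒰.f p) (𝒰.f q) ≫ g p = pullback.snd (𝒰.f p) (𝒰.f q) ≫ g q := by
    intro p q
    by_cases hpq : i p = i q
    · show pullback.fst (𝒰.f p) (𝒰.f q) ≫ 𝒰.f p ≫ _ = pullback.snd (𝒰.f p) (𝒰.f q) ≫ 𝒰.f q ≫ _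
      rw [pullback.condition_assoc, hpq]
    · haveI : IsEmpty (pullback (𝒰.f p) (𝒰.f q) : Scheme.{u}) := ⟨fun z => hpq ((hv p).unique (hv q)
        (pullback.fst (𝒰.f p) (𝒰.f q) z).2 (by
          have := congrArg (fun w : pullback (𝒰.f p) (𝒰.f q) ⟶ T.left => w z) (pullback.condition (f := 𝒰.f p) (g := 𝒰.f q))
          change ((pullback.fst (𝒰.f p) (𝒰.f q) z).1 : T.left) = (pullback.snd (𝒰.f p) (𝒰.f q) z).1 at this
          rw [this]
          exact (pullback.snd (𝒰.f p) (𝒰.f q) z).2))⟩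
      exact (isInitialOfIsEmpty).hom_ext _ _
  have hg : ∀ p, (V p).ι ≫ 𝒰.glueMorphisms g hcompat = g p := fun p => 𝒰.ι_glueMorphisms g hcompat p
  let a : T ⟶ TwC.const S (HomIdx.{u} MH MG) := Over.homMk (𝒰.glueMorphisms g hcompat) (Scheme.Cover.hom_ext 𝒰 _ _ fun p => by
    show (V p).ι ≫ 𝒰.glueMorphisms g hcompat ≫ _ = (V p).ι ≫ T.hom
    rw [reassoc_of% (hg p), Category.assoc, Category.assoc]
    exact congrArg ((V p).ι ≫ ·) ((congrArg (T.hom ≫ ·) (Sigma.ι_desc _ _)).trans (Category.comp_id _)))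
  have hmem : ∀ p q, q ∈ V p → q ∈ locus a (ULift.up (i p)) := fun p q hq => by
    refine ⟨T.hom ((V p).ι ⟨q, hq⟩), ?_⟩
    exact (congrArg (fun w : (V p : Scheme.{u}) ⟶ _ => w ⟨q, hq⟩) (hg p)).symm
  refine ⟨a, fun j Y g' t ht => ?_⟩
  refine Over.OverMorphism.ext (Scheme.Cover.hom_ext (Y.left.openCoverOfIsOpenCover (fun p => t.left ⁻¹ᵁ V p)
    (TopologicalSpace.IsOpenCover.mk (top_le_iff.1 fun z _ => TopologicalSpace.Opens.mem_iSup.2 ⟨t.left z, hp _⟩)))
    _ _ fun p => ?_)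
  let Y' : Over S := Over.mk ((t.left ⁻¹ᵁ V p).ι ≫ Y.hom)
  let k : Y' ⟶ Y := Over.homMk (t.left ⁻¹ᵁ V p).ι rfl
  show k.left ≫ _ = k.left ≫ _
  rw [← Over.comp_left, ← Over.comp_left]
  refine congrArg CommaMorphism.left ?_
  rcases isEmpty_or_nonempty Y'.left with he | ⟨⟨z⟩⟩
  · exact Over.OverMorphism.ext ((isInitialOfIsEmpty).hom_ext _ _)
  have hj : j = ULift.up (i p) := locus_unique a (ht ⟨k.left z, rfl⟩) (hmem p _ z.2)
  have hy : k.left ≫ t.left ≫ x = (k ≫ t).left ≫ x := (Category.assoc _ _ _).symm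
  rw [← eG.nat k _ _ _ (over_x x hx (k ≫ t)) hy, ← push_comp, ← eH.nat k _ _ _ (over_x x hx (k ≫ t)) hy,
    comp_lift_assoc, hj]
  exact hv p Y' (k ≫ g') (k ≫ t) (by rintro _ ⟨w, rfl⟩; exact w.2)

theorem rel_unique_right {a : T ⟶ TwC.const S (HomIdx.{u} MH MG)} {φ φ' : H ⊗ T ⟶ G}
    (h : Rel eH eG x hx a φ) (h' : Rel eH eG x hx a φ') : φ = φ' := by
  refine hom_ext_locus a (snd H T) fun Y k i hk => (eG.τ ((k ≫ snd H T).left ≫ x) (over_x x hx (k ≫ snd H T))).injective ?_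
  rw [show k = lift (k ≫ fst H T) (k ≫ snd H T) by rw [← comp_lift, lift_fst_snd, Category.comp_id]] 
  simp only [lift_snd]
  rw [h i Y _ _ hk, h' i Y _ _ hk]

theorem exists_rel_right (a : T ⟶ TwC.const S (HomIdx.{u} MH MG)) :
    ∃ φ : H ⊗ T ⟶ G, AutFam.IsHomFamily H G φ ∧ Rel eH eG x hx a φ := by
  let U : HomIdx.{u} MH MG → (H ⊗ T).left.Opens := fun i => (snd H T).left ⁻¹ᵁ locus a i
  let 𝒰 := (H ⊗ T).left.openCoverOfIsOpenCover U (TopologicalSpace.IsOpenCover.mk (top_le_iff.1 fun z _ => by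
    obtain ⟨i, hi⟩ := exists_mem_locus a ((snd H T).left z)
    exact TopologicalSpace.Opens.mem_iSup.2 ⟨i, hi⟩))
  let W : HomIdx.{u} MH MG → Over S := fun i => Over.mk ((U i).ι ≫ (H ⊗ T).hom)
  let w : ∀ i, W i ⟶ H ⊗ T := fun i => Over.homMk (U i).ι rfl
  let ψ : ∀ i, W i ⟶ G := fun i => (eG.τ ((w i ≫ snd H T).left ≫ x) (over_x x hx (w i ≫ snd H T))).symm
    (push i.down (eH.τ ((w i ≫ snd H T).left ≫ x) (over_x x hx (w i ≫ snd H T)) (w i ≫ fst H T)))
  have hcompat : ∀ i j, pullback.fst (𝒰.f i) (𝒰.f j) ≫ (ψ i).left = pullback.snd (𝒰.f i) (𝒰.f j) ≫ (ψ j).left := by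
    intro i j
    by_cases hij : i = j
    · subst hij
      rw [show pullback.fst (𝒰.f i) (𝒰.f i) = pullback.snd (𝒰.f i) (𝒰.f i) from
        fst_eq_snd_of_mono_eq (U i).ι]
    · haveI : IsEmpty (pullback (𝒰.f i) (𝒰.f j) : Scheme.{u}) := ⟨fun z => hij (locus_unique a
        (pullback.fst (𝒰.f i) (𝒰.f j) z).2 (by
          have := congrArg (fun v : pullback (𝒰.f i) (𝒰.f j) ⟶ (H ⊗ T).left => v z) (pullback.condition (f := 𝒰.f i) (g := 𝒰.f j))
          change ((pullback.fst (𝒰.f i) (𝒰.f j) z).1 : (H ⊗ T).left) = (pullback.snd (𝒰.f i) (𝒰.f j) z).1 at this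
          rw [this]
          exact (pullback.snd (𝒰.f i) (𝒰.f j) z).2))⟩
      exact (isInitialOfIsEmpty).hom_ext _ _
  have hφl : ∀ i, (U i).ι ≫ 𝒰.glueMorphisms (fun i => (ψ i).left) hcompat = (ψ i).left :=
    fun i => 𝒰.ι_glueMorphisms _ hcompat i
  let φ : H ⊗ T ⟶ G := Over.homMk (𝒰.glueMorphisms (fun i => (ψ i).left) hcompat) (Scheme.Cover.hom_ext 𝒰 _ _ fun i => by
    show (U i).ι ≫ 𝒰.glueMorphisms _ hcompat ≫ _ = (U i).ι ≫ (H ⊗ T).hom
    rw [reassoc_of% (hφl i)]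
    exact Over.w (ψ i))
  have hw : ∀ i, w i ≫ φ = ψ i := fun i => Over.OverMorphism.ext (hφl i)
  have hrel : Rel eH eG x hx a φ := by
    intro i Y g t ht
    have hr : Set.range (lift g t).left ⊆ Set.range (U i).ι := by
      rw [Scheme.Opens.range_ι]
      rintro _ ⟨z, rfl⟩
      show (snd H T).left ((lift g t).left z) ∈ locus a i
      rw [← Scheme.Hom.comp_apply, ← Over.comp_left, lift_snd]
      exact ht ⟨z, rfl⟩
    let k : Y ⟶ W i := Over.homMk (IsOpenImmersion.lift (U i).ι (lift g t).left hr) (by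
      show _ ≫ (U i).ι ≫ _ = _
      rw [IsOpenImmersion.lift_fac_assoc, Over.w (lift g t)])
    have hk : k ≫ w i = lift g t := Over.OverMorphism.ext (IsOpenImmersion.lift_fac _ _ _)
    have hy : k.left ≫ (w i ≫ snd H T).left ≫ x = t.left ≫ x := by
      rw [← Category.assoc, ← Over.comp_left, reassoc_of% hk, lift_snd]
    rw [← hk, Category.assoc, hw, eG.nat k _ (over_x x hx (w i ≫ snd H T)) _ (over_x x hx t) hy, MulEquiv.apply_symm_apply, ← push_comp,
      ← eH.nat k _ (over_x x hx (w i ≫ snd H T)) _ (over_x x hx t) hy, reassoc_of% hk, lift_fst]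
  refine ⟨φ, fun Y g₁ g₂ t => hom_ext_locus a t fun Y' k i hk => ?_, hrel⟩
  rw [MonObj.comp_mul, comp_lift_assoc, comp_lift_assoc, comp_lift_assoc, MonObj.comp_mul]
  refine (eG.τ ((k ≫ t).left ≫ x) (over_x x hx (k ≫ t))).injective ?_
  rw [map_mul, hrel i _ _ _ hk, hrel i _ _ _ hk, hrel i _ _ _ hk, map_mul, push_mul]

theorem Rel.comp {T' : Over S} (k : T' ⟶ T) (y : T'.left ⟶ X) (hy' : y ≫ f = T'.hom) (hy : k.left ≫ x = y)
    {a : T ⟶ TwC.const S (HomIdx.{u} MH MG)} {φ : H ⊗ T ⟶ G} (h : Rel eH eG x hx a φ) :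
    Rel eH eG y hy' (k ≫ a) ((H ◁ k) ≫ φ) := by
  intro i Y g t ht
  have h1 := h i Y g (t ≫ k) (by rintro _ ⟨z, rfl⟩; exact ht ⟨z, rfl⟩)
  have e : (t ≫ k).left ≫ x = t.left ≫ y := by rw [Over.comp_left, Category.assoc, hy]
  rw [lift_whiskerLeft_assoc]
  simpa only [e] using h1

theorem Valid.mul {φ ψ : H ⊗ T ⟶ G} {V : T.left.Opens} {i j : MG →+ MH} (hi : Valid eH eG x hx φ V i)
    (hj : Valid eH eG x hx ψ V j) : Valid eH eG x hx (φ * ψ) V (i + j) := by
  intro Y g t ht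
  rw [MonObj.comp_mul, map_mul, hi Y g t ht, hj Y g t ht, push_add]

theorem rel_pt_iff (i : HomIdx.{u} MH MG) {φ : H ⊗ T ⟶ G} :
    Rel eH eG x hx (toUnit T ≫ TwC.pt S _ i) φ ↔ Valid eH eG x hx φ ⊤ i.down := by
  refine ⟨fun h => ?_, fun h j Y g t ht => ?_⟩
  · have := h i
    rwa [locus_pt_top] at this
  · rcases isEmpty_or_nonempty Y.left with he | ⟨⟨z⟩⟩
    · exact Over.OverMorphism.ext ((isInitialOfIsEmpty).hom_ext _ _)
    · rw [locus_unique _ (ht ⟨z, rfl⟩) (by rw [locus_pt_top]; trivial : t.left z ∈ locus _ i)]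
      exact h Y g t fun _ _ => trivial

end Valid

end Groth.Agent.DualTw
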