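import Groth.Agent.DescLib.SigmaLocal
import Mathlib.CategoryTheory.Yoneda

/-!
# fpqc sheaves locally representable by affine schemes are representable
-/

universe u

set_option autoImplicit false
set_option backward.isDefEq.respectTransparency false
set_option backward.isDefEq.respectTransparency.types false
set_option linter.style.haveILetI false

open CategoryTheory CategoryTheory.Limits AlgebraicGeometry Opposite
open Desc Groth.Agent.DescLib

namespace Groth.Agent.DualTw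

variable {Y : Scheme.{u}} {κ : Type u} {X : κ → Scheme.{u}}

/-- A presheaf described on a family of morphisms by schemes over the base. -/
structure LocRep (f : ∀ i, X i ⟶ Y) (F : (Over Y)ᵒᵖ ⥤ Type u) where
  /-- the local models -/
  A : κ → Over Y
  /-- the local identifications -/
  θ : ∀ ⦃T : Over Y⦄ ⦃i : κ⦄ (x : T.left ⟶ X i), x ≫ f i = T.hom → ((T ⟶ A i) ≃ F.obj (op T))
  nat : ∀ ⦃T T' : Over Y⦄ (g : T' ⟶ T) ⦃i : κ⦄ (x : T.left ⟶ X i) (h : x ≫ f i = T.hom) (y : T'.left ⟶ X i)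
    (k : y ≫ f i = T'.hom), g.left ≫ x = y → ∀ a, θ y k (g ≫ a) = F.map g.op (θ x h a)

variable {f : ∀ i, X i ⟶ Y} {F : (Over Y)ᵒᵖ ⥤ Type u} (L : LocRep f F)

/-- The members of the datum. -/
noncomputable abbrev objL (i : κ) : Over (X i) := Over.mk (pullback.snd (L.A i).hom (f i))

/-- A point of a member as a section. -/
noncomputable def val {T : Over Y} {i : κ} {x : T.left ⟶ X i} (h : x ≫ f i = T.hom) (v : Lifts (objL L i) x) :
    F.obj (op T) :=
  L.θ x h (Over.homMk (v.1 ≫ pullback.fst (L.A i).hom (f i)) (by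
    have e : v.1 ≫ pullback.snd (L.A i).hom (f i) = x := v.2
    rw [Category.assoc, pullback.condition, ← Category.assoc, e, h]))

/-- A section as a point of a member. -/
noncomputable def mkPt {T : Over Y} {i : κ} (x : T.left ⟶ X i) (h : x ≫ f i = T.hom) (a : F.obj (op T)) :
    Lifts (objL L i) x :=
  ⟨pullback.lift ((L.θ x h).symm a).left x (by rw [Over.w, h]), pullback.lift_snd _ _ _⟩

theorem val_mkPt {T : Over Y} {i : κ} (x : T.left ⟶ X i) (h : x ≫ f i = T.hom) (a : F.obj (op T)) :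
    val L h (mkPt L x h a) = a := by
  refine Eq.trans ?_ ((L.θ x h).apply_symm_apply a)
  exact congrArg (L.θ x h) (Over.OverMorphism.ext (pullback.lift_fst _ _ _))

theorem val_injective {T : Over Y} {i : κ} {x : T.left ⟶ X i} (h : x ≫ f i = T.hom) {v w : Lifts (objL L i) x}
    (e : val L h v = val L h w) : v = w := by
  refine Subtype.ext (pullback.hom_ext ?_ (v.2.trans w.2.symm))
  exact congrArg CommaMorphism.left ((L.θ x h).injective e)

theorem val_nat {T T' : Over Y} (g : T' ⟶ T) {i : κ} {x : T.left ⟶ X i} (h : x ≫ f i = T.hom)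
    {y : T'.left ⟶ X i} (k : y ≫ f i = T'.hom) (hy : g.left ≫ x = y) (v : Lifts (objL L i) x)
    (w : Lifts (objL L i) y) (e : w.1 = g.left ≫ v.1) : val L k w = F.map g.op (val L h v) := by
  refine Eq.trans ?_ (L.nat g x h y k hy _)
  refine congrArg (L.θ y k) (Over.OverMorphism.ext ?_)
  show w.1 ≫ _ = g.left ≫ v.1 ≫ _
  rw [e, Category.assoc]

/-- The transition map. -/
noncomputable def fwd {T : Scheme.{u}} {i j : κ} (x₀ : T ⟶ X i) (x₁ : T ⟶ X j) (h : x₀ ≫ f i = x₁ ≫ f j)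
    (v : Lifts (objL L i) x₀) : Lifts (objL L j) x₁ :=
  mkPt L (T := Over.mk (x₀ ≫ f i)) x₁ h.symm (val L (T := Over.mk (x₀ ≫ f i)) rfl v)

theorem val_fwd {T : Over Y} {i j : κ} (x₀ : T.left ⟶ X i) (x₁ : T.left ⟶ X j) (h₀ : x₀ ≫ f i = T.hom)
    (h₁ : x₁ ≫ f j = T.hom) (h : x₀ ≫ f i = x₁ ≫ f j) (v : Lifts (objL L i) x₀) :
    val L h₁ (fwd L x₀ x₁ h v) = val L h₀ v := by
  let gg : T ⟶ Over.mk (x₀ ≫ f i) := Over.homMk (𝟙 T.left) (by
    show 𝟙 T.left ≫ x₀ ≫ f i = T.hom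
    rw [Category.id_comp, h₀])
  rw [val_nat L gg (T := Over.mk (x₀ ≫ f i)) h.symm h₁ (Category.id_comp _) (fwd L x₀ x₁ h v) _ (Category.id_comp _).symm,
    val_nat L gg (T := Over.mk (x₀ ≫ f i)) rfl h₀ (Category.id_comp _) v v (Category.id_comp _).symm]
  exact congrArg (fun z => F.map gg.op z) (val_mkPt L (T := Over.mk (x₀ ≫ f i)) x₁ h.symm _)

/-- The descent datum of a locally representable presheaf. -/
noncomputable def datum : SchDDFam f where
  obj := objL L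
  φ T i j x₀ x₁ h :=
    { toFun := fwd L x₀ x₁ h
      invFun := fwd L x₁ x₀ h.symm
      left_inv := fun v => by
        refine val_injective L (T := Over.mk (x₀ ≫ f i)) rfl ?_
        rw [val_fwd L (T := Over.mk (x₀ ≫ f i)) x₁ x₀ h.symm rfl, val_fwd L (T := Over.mk (x₀ ≫ f i)) x₀ x₁ rfl h.symm]
      right_inv := fun v => by
        refine val_injective L (T := Over.mk (x₀ ≫ f i)) h.symm ?_
        rw [val_fwd L (T := Over.mk (x₀ ≫ f i)) x₀ x₁ rfl h.symm, val_fwd L (T := Over.mk (x₀ ≫ f i)) x₁ x₀ h.symm rfl] }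
  φ_natural T T' g i j x₀ x₁ h y₀ y₁ hy₀ hy₁ h' v v' hv := by
    let TT : Over Y := Over.mk (x₀ ≫ f i)
    let TT' : Over Y := Over.mk (y₀ ≫ f i)
    let gg : TT' ⟶ TT := Over.homMk g (by
      show g ≫ x₀ ≫ f i = y₀ ≫ f i
      rw [← Category.assoc, hy₀])
    let w : Lifts (objL L j) y₁ := ⟨g ≫ (fwd L x₀ x₁ h v).1, by rw [Category.assoc, (fwd L x₀ x₁ h v).2, hy₁]⟩
    refine congrArg Subtype.val (a₂ := w) (val_injective L (T := TT') h'.symm ?_)
    show val L (T := TT') h'.symm (fwd L y₀ y₁ h' v') = _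
    rw [val_fwd L (T := TT') y₀ y₁ rfl h'.symm, val_nat L gg rfl rfl hy₀ v v' hv,
      val_nat L gg h.symm h'.symm hy₁ (fwd L x₀ x₁ h v) w rfl, val_fwd L (T := TT) x₀ x₁ rfl h.symm]
  φ_self T i x v := by
    refine val_injective L (T := Over.mk (x ≫ f i)) rfl ?_
    show val L (T := Over.mk (x ≫ f i)) rfl (fwd L x x rfl v) = _
    rw [val_fwd L (T := Over.mk (x ≫ f i)) x x rfl rfl]
  φ_comp T i j k x₀ x₁ x₂ h₀₁ h₁₂ v := by
    refine val_injective L (T := Over.mk (x₀ ≫ f i)) (h₀₁.trans h₁₂).symm ?_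
    show val L (T := Over.mk (x₀ ≫ f i)) (h₀₁.trans h₁₂).symm (fwd L x₁ x₂ h₁₂ (fwd L x₀ x₁ h₀₁ v)) =
      val L (T := Over.mk (x₀ ≫ f i)) (h₀₁.trans h₁₂).symm (fwd L x₀ x₂ (h₀₁.trans h₁₂) v)
    rw [val_fwd L (T := Over.mk (x₀ ≫ f i)) x₁ x₂ h₀₁.symm, val_fwd L (T := Over.mk (x₀ ≫ f i)) x₀ x₁ rfl h₀₁.symm,
      val_fwd L (T := Over.mk (x₀ ≫ f i)) x₀ x₂ rfl]

theorem map_map {T₁ T₂ T₃ : Over Y} (g : T₁ ⟶ T₂) (k : T₂ ⟶ T₃) (s : F.obj (op T₃)) :
    F.map g.op (F.map k.op s) = F.map (g ≫ k).op s := by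
  rw [op_comp, Functor.map_comp]
  rfl

include L in
/-- A sheaf for an fpqc family which is locally representable with effective descent datum is representable. -/
theorem exists_representableBy_of_effective (hf : Presieve.ofArrows X f ∈ Scheme.fpqcPrecoverage Y)
    (heff : (datum L).IsEffective)
    (hsep : ∀ ⦃T : Over Y⦄ (s s' : F.obj (op T)), (∀ ⦃T' : Over Y⦄ (g : T' ⟶ T) ⦃i : κ⦄ (x : T'.left ⟶ X i),
      x ≫ f i = T'.hom → F.map g.op s = F.map g.op s') → s = s')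
    (hglue : ∀ ⦃T : Over Y⦄ (a : ∀ ⦃T' : Over Y⦄ (_ : T' ⟶ T) ⦃i : κ⦄ (x : T'.left ⟶ X i),
        x ≫ f i = T'.hom → F.obj (op T')),
      (∀ ⦃T' T'' : Over Y⦄ (g : T' ⟶ T) (k : T'' ⟶ T') ⦃i : κ⦄ (x : T'.left ⟶ X i) (h : x ≫ f i = T'.hom)
        (y : T''.left ⟶ X i) (h' : y ≫ f i = T''.hom), k.left ≫ x = y → a (k ≫ g) y h' = F.map k.op (a g x h)) →
      (∀ ⦃T' : Over Y⦄ (g : T' ⟶ T) ⦃i j : κ⦄ (x : T'.left ⟶ X i) (x' : T'.left ⟶ X j) (h : x ≫ f i = T'.hom)
        (h' : x' ≫ f j = T'.hom), a g x' h' = a g x h) →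
      ∃ s, ∀ ⦃T' : Over Y⦄ (g : T' ⟶ T) ⦃i : κ⦄ (x : T'.left ⟶ X i) (h : x ≫ f i = T'.hom), F.map g.op s = a g x h) :
    ∃ U : Over Y, Nonempty (F.RepresentableBy U) := by
  obtain ⟨U, c₀, hu⟩ := rep_of_isEffective (fun {T} s => factorSieve_mem_of_cover f hf s) heff
  let pc : ∀ ⦃T : Over Y⦄ (_ : T ⟶ U) ⦃i : κ⦄ (x : T.left ⟶ X i), x ≫ f i = T.hom → F.obj (op T) :=
    fun T u i x h => val L h (c₀.pt u.left x (by rw [h, Over.w u]))
  have hpnat : ∀ ⦃T T' : Over Y⦄ (u : T ⟶ U) (k : T' ⟶ T) ⦃i : κ⦄ (x : T.left ⟶ X i) (h : x ≫ f i = T.hom)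
      (y : T'.left ⟶ X i) (h' : y ≫ f i = T'.hom), k.left ≫ x = y → pc (k ≫ u) y h' = F.map k.op (pc u x h) :=
    fun T T' u k i x h y h' e => val_nat L k h h' e _ _
      (c₀.nat k.left u.left x _ (k ≫ u).left y (Over.comp_left _ _ _ k u).symm e _)
  have hpcomp : ∀ ⦃T : Over Y⦄ (u : T ⟶ U) ⦃i j : κ⦄ (x : T.left ⟶ X i) (x' : T.left ⟶ X j) (h : x ≫ f i = T.hom)
      (h' : x' ≫ f j = T.hom), pc u x' h' = pc u x h := by
    intro T u i j x x' h h'
    show val L _ (c₀.pt u.left x' _) = _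
    rw [← c₀.comp u.left x x' (by rw [h, Over.w u]) (by rw [h', Over.w u])]
    exact val_fwd L x x' h h' (h.trans h'.symm) _
  have hex : ∀ ⦃T : Over Y⦄ (u : T ⟶ U), ∃ s, ∀ ⦃T' : Over Y⦄ (g : T' ⟶ T) ⦃i : κ⦄ (x : T'.left ⟶ X i)
      (h : x ≫ f i = T'.hom), F.map g.op s = pc (g ≫ u) x h := fun T u =>
    hglue (fun T' g i x h => pc (g ≫ u) x h)
      (fun T' T'' g k i x h y h' e => by rw [Category.assoc]; exact hpnat _ k x h y h' e)
      (fun T' g i j x x' h h' => hpcomp _ x x' h h')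
  choose Φ hΦ using hex
  have hinj : ∀ ⦃T : Over Y⦄, Function.Injective (Φ (T := T)) := by
    intro T u u' e
    refine Over.OverMorphism.ext ?_
    obtain ⟨p, -, hp⟩ := hu T.hom (c₀.res u.left T.hom (Over.w u))
    have e1 : (⟨u.left, Over.w u⟩ : Lifts U T.hom) = p := hp _ rfl
    have e2 : (⟨u'.left, Over.w u'⟩ : Lifts U T.hom) = p := hp _ (Compat.ext fun T' t i y hy => by
      let g : Over.mk (t ≫ T.hom) ⟶ T := Over.homMk t rfl
      have e' := val_injective L (T := Over.mk (t ≫ T.hom)) hy ((hΦ u' g y hy).symm.trans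
        ((congrArg (fun z => F.map g.op z) e.symm).trans (hΦ u g y hy)))
      exact congrArg Subtype.val e')
    exact congrArg Subtype.val (e1.trans e2.symm)
  have hsurj : ∀ ⦃T : Over Y⦄, Function.Surjective (Φ (T := T)) := by
    intro T s
    let mk' : ∀ ⦃T' : Scheme.{u}⦄ (t : T' ⟶ T.left), Over.mk (t ≫ T.hom) ⟶ T := fun T' t => Over.homMk t rfl
    let pt : ∀ ⦃T' : Scheme.{u}⦄ (t : T' ⟶ T.left) ⦃i : κ⦄ (y : T' ⟶ X i), y ≫ f i = t ≫ T.hom →
        Lifts (objL L i) y :=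
      fun T' t i y h => mkPt L (T := Over.mk (t ≫ T.hom)) y h (F.map (mk' t).op s)
    let c : Compat (datum L) T.hom :=
      { pt := pt
        nat := fun T' T'' g t i y h t' y' hg hy h' => by
          subst hg
          let k : Over.mk ((g ≫ t) ≫ T.hom) ⟶ Over.mk (t ≫ T.hom) := Over.homMk g (Category.assoc _ _ _).symm
          let w : Lifts (objL L i) y' := ⟨g ≫ (pt t y h).1, by rw [Category.assoc, (pt t y h).2, hy]⟩
          refine congrArg Subtype.val (a₂ := w) (val_injective L (T := Over.mk ((g ≫ t) ≫ T.hom)) h' ?_)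
          rw [val_mkPt, val_nat L k h h' hy (pt t y h) w rfl, val_mkPt, map_map,
            show k ≫ mk' t = mk' (g ≫ t) from Over.OverMorphism.ext rfl]
        comp := fun T' t i k y y' h h' => by
          refine val_injective L (T := Over.mk (t ≫ T.hom)) h' ?_
          refine (val_fwd L (T := Over.mk (t ≫ T.hom)) y y' h h' (h.trans h'.symm) (pt t y h)).trans ?_
          rw [val_mkPt, val_mkPt] }
    obtain ⟨p, hp, -⟩ := hu T.hom c
    refine ⟨Over.homMk p.1 p.2, hsep _ _ fun T' g i x h => ?_⟩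
    rw [hΦ _ g x h]
    let gg : T' ⟶ Over.mk (g.left ≫ T.hom) := Over.homMk (𝟙 T'.left) (by
      show 𝟙 T'.left ≫ g.left ≫ T.hom = T'.hom
      rw [Category.id_comp, Over.w g])
    have h0 : x ≫ f i = g.left ≫ T.hom := by rw [h, Over.w g]
    show val L h (c₀.pt (g.left ≫ p.1) x _) = _
    have e : c₀.pt (g.left ≫ p.1) x (by rw [h0, Category.assoc, p.2]) = pt g.left x h0 :=
      Subtype.ext (congrArg (fun z : Compat (datum L) T.hom => (z.pt g.left x h0).1) hp)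
    rw [e, val_nat L gg (T := Over.mk (g.left ≫ T.hom)) h0 h (Category.id_comp _) (pt g.left x h0) _ (Category.id_comp _).symm,
      val_mkPt, map_map, show gg ≫ mk' g.left = g from Over.OverMorphism.ext (Category.id_comp _)]
  refine ⟨U, ⟨{ homEquiv := fun {T} => Equiv.ofBijective (Φ (T := T)) ⟨@hinj T, @hsurj T⟩, homEquiv_comp := ?_ }⟩⟩
  intro T T' g u
  refine hsep _ _ fun T'' k i x h => ?_
  show F.map k.op (Φ (g ≫ u)) = F.map k.op (F.map g.op (Φ u))
  rw [hΦ _ k x h, map_map, hΦ u (k ≫ g) x h, Category.assoc]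

include L in
/-- A sheaf for an fpqc family which is representable by affine schemes on its members is representable. -/
theorem exists_representableBy (hf : Presieve.ofArrows X f ∈ Scheme.fpqcPrecoverage Y)
    (hA : ∀ i, IsAffineHom (L.A i).hom)
    (hsep : ∀ ⦃T : Over Y⦄ (s s' : F.obj (op T)), (∀ ⦃T' : Over Y⦄ (g : T' ⟶ T) ⦃i : κ⦄ (x : T'.left ⟶ X i),
      x ≫ f i = T'.hom → F.map g.op s = F.map g.op s') → s = s')
    (hglue : ∀ ⦃T : Over Y⦄ (a : ∀ ⦃T' : Over Y⦄ (_ : T' ⟶ T) ⦃i : κ⦄ (x : T'.left ⟶ X i),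
        x ≫ f i = T'.hom → F.obj (op T')),
      (∀ ⦃T' T'' : Over Y⦄ (g : T' ⟶ T) (k : T'' ⟶ T') ⦃i : κ⦄ (x : T'.left ⟶ X i) (h : x ≫ f i = T'.hom)
        (y : T''.left ⟶ X i) (h' : y ≫ f i = T''.hom), k.left ≫ x = y → a (k ≫ g) y h' = F.map k.op (a g x h)) →
      (∀ ⦃T' : Over Y⦄ (g : T' ⟶ T) ⦃i j : κ⦄ (x : T'.left ⟶ X i) (x' : T'.left ⟶ X j) (h : x ≫ f i = T'.hom)
        (h' : x' ≫ f j = T'.hom), a g x' h' = a g x h) →
      ∃ s, ∀ ⦃T' : Over Y⦄ (g : T' ⟶ T) ⦃i : κ⦄ (x : T'.left ⟶ X i) (h : x ≫ f i = T'.hom), F.map g.op s = a g x h) :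
    ∃ U : Over Y, Nonempty (F.RepresentableBy U) :=
  exists_representableBy_of_effective L hf
    (effective_of_affine_case @IsAffineHom (prop_sigmaMap' @IsAffineHom) (fun X S p _ _ _ _ D (hD : IsAffineHom D.obj.hom) =>
      haveI : IsAffine D.obj.left := isAffine_of_isAffineHom D.obj.hom
      effective_affine p D) f hf (datum L) fun i => MorphismProperty.pullback_snd _ _ (hA i))
    hsep hglue

end Groth.Agent.DualTw
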