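import Groth.Agent.DualTw.HomLoc
import Groth.Agent.DualTw.Rep
import Groth.Agent.DescLib.IndQAEff
import Groth.Agent.TorsTwist.Torsor
import Groth.Agent.GrpSchLib.MultTypeBC
import Groth.Agent.GrpFieldLib.TwIrred

/-!
# The scheme of homomorphisms between quasi-isotrivial groups of multiplicative type
-/

universe u

set_option autoImplicit false
set_option backward.isDefEq.respectTransparency false
set_option backward.isDefEq.respectTransparency.types false
set_option linter.style.haveILetI false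

open CategoryTheory CategoryTheory.Limits MonoidalCategory CartesianMonoidalCategory MonObj AlgebraicGeometry
open Opposite
open Groth.Agent.DSPtsLib

namespace Groth.Agent.DualTw

variable {S : Scheme.{u}}

theorem indQA_const (I : Type u) : MoreMor.IsIndQuasiAffineHom (TwC.const S I).hom := by
  haveI hlqf : LocallyQuasiFinite (TwC.const S I).hom := IsZariskiLocalAtSource.sigmaDesc fun _ => inferInstance
  haveI hlft : LocallyOfFiniteType (TwC.const S I).hom := IsZariskiLocalAtSource.sigmaDesc fun _ => inferInstance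
  haveI hsep : IsSeparated (TwC.const S I).hom := GrpFieldLib.TwSplit.isSeparated_sigma I
  exact MorLib.IQA.indQA_of_locallyQuasiFinite _

theorem sec_ι {X : Scheme.{u}} (π : X ⟶ S) {I : Type u} (i : I) :
    (π ≫ Sigma.ι (fun _ : I => S) i) ≫ (TwC.const S I).hom = 𝟙 X ≫ π := by
  rw [Category.assoc, Category.id_comp]
  exact (congrArg (π ≫ ·) (Sigma.ι_desc _ _)).trans (Category.comp_id _)

/-- The base change of a constant scheme is constant. -/
theorem exists_bcConst {X : Scheme.{u}} (π : X ⟶ S) (I : Type u) :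
    ∃ c : Red.bc π (TwC.const S I) ≅ TwC.const X I, ∀ i,
      theta π (TwC.pt X I i ≫ c.inv) = toUnit _ ≫ TwC.pt S I i := by
  let σ : ∀ i, X ⟶ pullback (TwC.const S I).hom π := fun i =>
    pullback.lift (π ≫ Sigma.ι (fun _ : I => S) i) (𝟙 X) (sec_ι π i)
  have hsq : ∀ i, IsPullback (σ i) π (pullback.fst (TwC.const S I).hom π) (Sigma.ι (fun _ : I => S) i) := fun i => by
    refine IsPullback.of_right (h₁₂ := pullback.snd (TwC.const S I).hom π) (h₂₂ := (TwC.const S I).hom) ?_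
      (pullback.lift_fst _ _ _) (IsPullback.of_hasPullback _ _).flip
    rw [pullback.lift_snd, show Sigma.ι (fun _ : I => S) i ≫ (TwC.const S I).hom = 𝟙 S from Sigma.ι_desc _ _]
    exact IsPullback.of_horiz_isIso ⟨by rw [Category.id_comp, Category.comp_id]⟩
  haveI hσ : ∀ i, IsOpenImmersion (σ i) := fun i =>
    MorphismProperty.of_isPullback (P := @IsOpenImmersion) (hsq i).flip inferInstance
  let d : (∐ fun _ : I => X) ⟶ pullback (TwC.const S I).hom π := Sigma.desc σ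
  haveI : IsOpenImmersion d := isOpenImmersion_sigmaDesc _ _ fun i j hij =>
    Set.disjoint_iff_forall_ne.mpr fun _ ⟨a, ha⟩ _ ⟨b, hb⟩ h => hij (by
      have h1 := congrArg (pullback.fst (TwC.const S I).hom π) (ha.trans (h.trans hb.symm))
      rw [← Scheme.Hom.comp_apply, ← Scheme.Hom.comp_apply] at h1
      change ((σ i ≫ pullback.fst _ _) a : _) = (σ j ≫ pullback.fst _ _) b at h1
      rw [(hsq i).w, (hsq j).w, Scheme.Hom.comp_apply, Scheme.Hom.comp_apply] at h1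
      exact (Sigma.mk.inj ((sigmaι_eq_iff (fun _ : I => S) i j _ _).1 h1)).1)
  haveI : IsIso d := isIso_of_isOpenImmersion_of_opensRange_eq_top _ (eq_top_iff.mpr fun z _ => by
    let i : I := (sigmaOpenCover (fun _ : I => S)).idx (pullback.fst (TwC.const S I).hom π z)
    obtain ⟨q, hq⟩ := (sigmaOpenCover (fun _ : I => S)).covers (pullback.fst (TwC.const S I).hom π z)
    obtain ⟨w, hw, -⟩ := Scheme.Pullback.exists_preimage_pullback (f := pullback.fst (TwC.const S I).hom π)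
      (g := Sigma.ι (fun _ : I => S) i) z q hq.symm
    refine ⟨Sigma.ι (fun _ : I => X) i ((hsq i).isoPullback.inv w), ?_⟩
    rw [← Scheme.Hom.comp_apply, Sigma.ι_desc, ← Scheme.Hom.comp_apply, (hsq i).isoPullback_inv_fst]
    exact hw)
  refine ⟨(Over.isoMk (asIso d) (Sigma.hom_ext _ _ fun i => ?_) : TwC.const X I ≅ Red.bc π (TwC.const S I)).symm,
    fun i => Over.OverMorphism.ext ?_⟩
  · rw [← Category.assoc]
    show (Sigma.ι (fun _ : I => X) i ≫ d) ≫ pullback.snd _ _ = Sigma.ι (fun _ : I => X) i ≫ Sigma.desc fun _ : I => 𝟙 X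
    rw [Sigma.ι_desc, Sigma.ι_desc, pullback.lift_snd]
  · show (Sigma.ι (fun _ : I => X) i ≫ d) ≫ pullback.fst _ _ = _
    rw [Sigma.ι_desc, pullback.lift_fst]
    rfl

variable (H G : Over S) [GrpObj H] [GrpObj G]

theorem isHomFamily_whisker {T T' : Over S} (g : T' ⟶ T) {φ : H ⊗ T ⟶ G} (hφ : AutFam.IsHomFamily H G φ) :
    AutFam.IsHomFamily H G ((H ◁ g) ≫ φ) := by
  intro Y g₁ g₂ t
  simp only [lift_whiskerLeft_assoc]
  exact hφ Y g₁ g₂ (t ≫ g)

/-- The presheaf of homomorphisms. -/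
noncomputable def homFunctor : (Over S)ᵒᵖ ⥤ Type u where
  obj T := {φ : H ⊗ T.unop ⟶ G // AutFam.IsHomFamily H G φ}
  map g := TypeCat.ofHom fun φ => ⟨(H ◁ g.unop) ≫ φ.1, isHomFamily_whisker H G g.unop φ.2⟩
  map_id T := by
    refine ConcreteCategory.hom_ext _ _ fun φ => Subtype.ext ?_
    show (H ◁ 𝟙 T.unop) ≫ φ.1 = φ.1
    rw [whiskerLeft_id, Category.id_comp]
  map_comp {A B C} g h := by
    refine ConcreteCategory.hom_ext _ _ fun φ => Subtype.ext ?_
    show (H ◁ (h.unop ≫ g.unop)) ≫ φ.1 = (H ◁ h.unop) ≫ (H ◁ g.unop) ≫ φ.1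
    rw [whiskerLeft_comp, Category.assoc]

section Local

variable {H G} {MH MG : Type} [AddCommGroup MH] [AddCommGroup MG] [AddGroup.FG MG] {X : Scheme.{u}} {f : X ⟶ S}
  (eH : PtIso f H (Red.DS S MH)) (eG : PtIso f G (Red.DS S MG)) {T : Over S} (x : T.left ⟶ X) (hx : x ≫ f = T.hom)

/-- The family of a point of the constant scheme. -/
noncomputable def relFam (a : T ⟶ TwC.const S (HomIdx.{u} MH MG)) : {φ : H ⊗ T ⟶ G // AutFam.IsHomFamily H G φ} :=
  ⟨(exists_rel_right (eH := eH) (eG := eG) (x := x) (hx := hx) a).choose,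
    (exists_rel_right (eH := eH) (eG := eG) (x := x) (hx := hx) a).choose_spec.1⟩

theorem relFam_rel (a : T ⟶ TwC.const S (HomIdx.{u} MH MG)) : Rel eH eG x hx a (relFam eH eG x hx a).1 :=
  (exists_rel_right (eH := eH) (eG := eG) (x := x) (hx := hx) a).choose_spec.2

theorem relFam_bijective : Function.Bijective (relFam eH eG x hx) := by
  refine ⟨fun a b h => rel_unique_left (relFam_rel eH eG x hx a) (h ▸ relFam_rel eH eG x hx b), fun φ => ?_⟩
  obtain ⟨a, ha⟩ := exists_rel_left (eH := eH) (eG := eG) (x := x) (hx := hx) φ.1 φ.2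
  exact ⟨a, Subtype.ext (rel_unique_right (relFam_rel eH eG x hx a) ha)⟩

end Local

/-- The representing scheme with its local descriptions. -/
theorem exists_hom_scheme
    (hH : TwC.Locally S TwC.Topology.etale (fun S' f => ∃ (M : Type) (_ : AddCommGroup M),
      Nonempty (Grp.mk (Red.bc f H) ≅ Grp.mk (Red.DS S' M))))
    (hG : TwC.Locally S TwC.Topology.etale (fun S' f => ∃ (M : Type) (_ : AddCommGroup M),
      AddGroup.FG M ∧ Nonempty (Grp.mk (Red.bc f G) ≅ Grp.mk (Red.DS S' M)))) :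
    ∃ (A : Over S) (υ : H ⊗ A ⟶ G), AutFam.RepresentsHom H G A υ ∧
      TwC.Locally S TwC.Topology.etale (fun S' f => ∃ (MH MG : Type) (_ : AddCommGroup MH) (_ : AddCommGroup MG)
        (eH : PtIso f H (Red.DS S MH)) (eG : PtIso f G (Red.DS S MG))
        (e : Red.bc f A ≅ TwC.const S' (HomIdx.{u} MH MG)), ∀ i,
          Valid eH eG (T := (Over.map f).obj (𝟙_ (Over S'))) (𝟙_ (Over S')).hom rfl
            ((H ◁ theta f (TwC.pt S' _ i ≫ e.inv)) ≫ υ) ⊤ i.down) := by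
  have hloc : ∀ s : S, ∃ (X : Scheme.{u}) (π : X ⟶ S), Etale π ∧ s ∈ Set.range π.base ∧
      ∃ (MH MG : Type) (_ : AddCommGroup MH) (_ : AddCommGroup MG), AddGroup.FG MG ∧
        Nonempty (PtIso π H (Red.DS S MH)) ∧ Nonempty (PtIso π G (Red.DS S MG)) := by
    intro s
    obtain ⟨X₁, f₁, hf₁, ⟨a, ha⟩, MH, iH, ⟨eH⟩⟩ := hH s
    obtain ⟨X₂, f₂, hf₂, ⟨b, hb⟩, MG, iG, hfg, ⟨eG⟩⟩ := hG s
    obtain ⟨z, hz, -⟩ := Scheme.Pullback.exists_preimage_pullback (f := f₁) (g := f₂) a b (ha.trans hb.symm)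
    obtain ⟨b₁⟩ := GrpSchLib.MultTypeBC.bc_bc (pullback.fst f₁ f₂) f₁ H
    obtain ⟨c₁⟩ := GrpSchLib.MultTypeBC.bc_iso (pullback.fst f₁ f₂) eH
    obtain ⟨d₁⟩ := GrpSchLib.MultTypeBC.bc_DS (U := X₁) (pullback.fst f₁ f₂) MH
    obtain ⟨d₁'⟩ := GrpSchLib.MultTypeBC.bc_DS (U := S) (pullback.fst f₁ f₂ ≫ f₁) MH
    obtain ⟨b₂⟩ := GrpSchLib.MultTypeBC.bc_bc (pullback.snd f₁ f₂) f₂ G
    obtain ⟨c₂⟩ := GrpSchLib.MultTypeBC.bc_iso (pullback.snd f₁ f₂) eG
    obtain ⟨d₂⟩ := GrpSchLib.MultTypeBC.bc_DS (U := X₂) (pullback.snd f₁ f₂) MG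
    obtain ⟨d₂'⟩ := GrpSchLib.MultTypeBC.bc_DS (U := S) (pullback.snd f₁ f₂ ≫ f₂) MG
    have hπ : pullback.snd f₁ f₂ ≫ f₂ = pullback.fst f₁ f₂ ≫ f₁ := pullback.condition.symm
    obtain ⟨r₂⟩ := GrpSchLib.MultTypeBC.bc_congr hπ G
    obtain ⟨r₂'⟩ := GrpSchLib.MultTypeBC.bc_congr hπ (Red.DS S MG)
    exact ⟨_, pullback.fst f₁ f₂ ≫ f₁, inferInstance, ⟨z, by rw [← ha, ← hz]; rfl⟩, MH, MG, iH, iG, hfg,
      ⟨PtIso.ofIso (b₁.symm ≪≫ c₁ ≪≫ d₁ ≪≫ d₁'.symm)⟩,
      ⟨PtIso.ofIso (r₂.symm ≪≫ b₂.symm ≪≫ c₂ ≪≫ d₂ ≪≫ d₂'.symm ≪≫ r₂')⟩⟩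
  choose X π hπ hrange MH MG iH iG hfg eH eG using hloc
  letI := iH
  letI := iG
  haveI := hπ
  haveI := hfg
  have hcov : Presieve.ofArrows X π ∈ Scheme.fpqcPrecoverage S := by
    refine Scheme.fppfPrecoverage_le_fpqcPrecoverage _ ((Scheme.ofArrows_mem_precoverage_iff _).2 ⟨fun s => ?_, fun i => ?_⟩)
    · exact ⟨s, hrange s⟩
    · exact ⟨inferInstance, inferInstance⟩
  let eH' := fun s => (eH s).some
  let eG' := fun s => (eG s).some
  let L : LocRep π (homFunctor H G) :=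
    { A := fun s => TwC.const S (HomIdx.{u} (MH s) (MG s))
      θ := fun T s x h => Equiv.ofBijective _ (relFam_bijective (eH' s) (eG' s) x h)
      nat := fun T T' g s x h y k hy a => Subtype.ext (rel_unique_right (relFam_rel (eH' s) (eG' s) y k _)
        ((relFam_rel (eH' s) (eG' s) x h a).comp g y k hy)) }
  obtain ⟨A, ⟨α⟩⟩ := exists_representableBy_of_effective L hcov
    (DescLib.IndQA.isEffective_of_indQA π hcov (datum L) fun s =>
      MorphismProperty.pullback_snd (P := DescLib.IndQA.indQA) _ _ (indQA_const _))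
    (fun T φ φ' h => Subtype.ext (TorsTwist.hom_ext_family π hcov fun T' g s x hx => by
      have := congrArg (fun z => lift (g ≫ fst H T) (𝟙 T') ≫ z) (congrArg Subtype.val (h (g ≫ snd H T) x hx))
      change lift (g ≫ fst H T) (𝟙 T') ≫ (H ◁ (g ≫ snd H T)) ≫ φ.1 =
        lift (g ≫ fst H T) (𝟙 T') ≫ (H ◁ (g ≫ snd H T)) ≫ φ'.1 at this
      simpa [lift_whiskerLeft_assoc, ← comp_lift_assoc] using this))
    (fun T a han hac => by
      obtain ⟨φ, hφ⟩ := TorsTwist.exists_glue_hom π hcov (T := H ⊗ T) (B := G)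
        (fun T' g s x h => lift (g ≫ fst H T) (𝟙 T') ≫ (a (g ≫ snd H T) x h).1)
        (fun T' T'' g k s x h y h' e1 => by
          show lift ((k ≫ g) ≫ fst H T) (𝟙 T'') ≫ (a ((k ≫ g) ≫ snd H T) y h').1 = _
          have := congrArg Subtype.val (han (g ≫ snd H T) k x h y h' e1)
          simp only [← Category.assoc] at this
          rw [this]
          show lift ((k ≫ g) ≫ fst H T) (𝟙 T'') ≫ (H ◁ k) ≫ (a (g ≫ snd H T) x h).1 = _
          rw [lift_whiskerLeft_assoc, Category.id_comp, comp_lift_assoc, Category.comp_id, Category.assoc])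
        (fun T' g s s' x x' h h' => by rw [hac (g ≫ snd H T) x x' h h'])
      have hfam : AutFam.IsHomFamily H G φ := by
        intro Y g₁ g₂ t
        refine TorsTwist.hom_ext_family π hcov fun Y' k s x h => ?_
        simp only [comp_lift_assoc, MonObj.comp_mul]
        rw [hφ (lift ((k ≫ g₁) * (k ≫ g₂)) (k ≫ t)) x h, hφ (lift (k ≫ g₁) (k ≫ t)) x h,
          hφ (lift (k ≫ g₂) (k ≫ t)) x h]
        simp only [lift_fst, lift_snd]
        exact (a (k ≫ t) x h).2 Y' _ _ _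
      refine ⟨⟨φ, hfam⟩, fun T' g s x h => Subtype.ext (TorsTwist.hom_ext_family π hcov fun T'' k j y hy => ?_)⟩
      show k ≫ (H ◁ g) ≫ φ = k ≫ (a g x h).1
      rw [← Category.assoc, hφ (k ≫ (H ◁ g)) y hy]
      simp only [Category.assoc, whiskerLeft_fst, whiskerLeft_snd]
      have hx : ((k ≫ snd H T').left ≫ x) ≫ π s = T''.hom := by rw [Category.assoc, h, Over.w]
      have h1 := han g (k ≫ snd H T') x h _ hx rfl
      rw [Category.assoc] at h1
      rw [← hac (k ≫ snd H T' ≫ g) ((k ≫ snd H T').left ≫ x) y hx hy] at h1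
      rw [h1]
      show lift (k ≫ fst H T') (𝟙 T'') ≫ (H ◁ (k ≫ snd H T')) ≫ (a g x h).1 = k ≫ (a g x h).1
      rw [lift_whiskerLeft_assoc, Category.id_comp, ← comp_lift_assoc, lift_fst_snd, Category.id_comp])
  let υ : H ⊗ A ⟶ G := (α.homEquiv (𝟙 A)).1
  have hυ : ∀ {T : Over S} (a : T ⟶ A), (α.homEquiv a).1 = (H ◁ a) ≫ υ := fun {T} a => by
    have := congrArg Subtype.val (α.homEquiv_comp a (𝟙 A))
    rw [Category.comp_id] at this
    exact this
  refine ⟨A, υ, ⟨(α.homEquiv (𝟙 A)).2, fun T φ hφ => ?_⟩, fun s => ⟨X s, π s, hπ s, hrange s, MH s, MG s, iH s,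
    iG s, eH' s, eG' s, ?_⟩⟩
  · refine ⟨α.homEquiv.symm ⟨φ, hφ⟩, ?_, fun a ha => ?_⟩
    · show (H ◁ α.homEquiv.symm ⟨φ, hφ⟩) ≫ υ = φ
      rw [← hυ, Equiv.apply_symm_apply]
    · apply α.homEquiv.injective
      rw [Equiv.apply_symm_apply]
      exact Subtype.ext ((hυ a).trans ha)
  · let I := HomIdx.{u} (MH s) (MG s)
    let P := Red.bc (π s) (TwC.const S I)
    let Q := Red.bc (π s) A
    let Ψ : ∀ Y : Over (X s), (Y ⟶ P) ≃ (Y ⟶ Q) := fun Y =>
      (Equiv.ofBijective _ (theta_bijective (π s) (H := TwC.const S I))).trans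
        (((L.θ (T := (Over.map (π s)).obj Y) Y.hom rfl).trans α.homEquiv.symm).trans
          (Equiv.ofBijective _ (theta_bijective (π s) (H := A))).symm)
    have hΨ : ∀ {Y : Over (X s)} (a : Y ⟶ P), α.homEquiv (theta (π s) (Ψ Y a)) =
        L.θ (T := (Over.map (π s)).obj Y) Y.hom rfl (theta (π s) a) := fun {Y} a => by
      have h1 : theta (π s) (Ψ Y a) = α.homEquiv.symm (L.θ (T := (Over.map (π s)).obj Y) Y.hom rfl (theta (π s) a)) :=
        (Equiv.ofBijective _ (theta_bijective (π s) (H := A))).apply_symm_apply _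
      rw [h1, Equiv.apply_symm_apply]
    have hΨnat : ∀ {Y Y' : Over (X s)} (g : Y' ⟶ Y) (a : Y ⟶ P), Ψ Y' (g ≫ a) = g ≫ Ψ Y a := fun {Y Y'} g a => by
      refine (theta_bijective (π s)).injective (α.homEquiv.injective ?_)
      rw [hΨ, theta_comp, theta_comp, α.homEquiv_comp, hΨ]
      exact L.nat ((Over.map (π s)).map g) Y.hom rfl Y'.hom rfl (Over.w g) _
    let q : P ⟶ Q := Ψ P (𝟙 P)
    have hq : ∀ {Y : Over (X s)} (a : Y ⟶ P), a ≫ q = Ψ Y a := fun {Y} a => by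
      rw [← hΨnat a (𝟙 P), Category.comp_id]
    haveI : IsIso q := ⟨(Ψ Q).symm (𝟙 Q), (Ψ P).injective (by
        rw [hΨnat, Equiv.apply_symm_apply, Category.comp_id]), by rw [hq, Equiv.apply_symm_apply]⟩
    obtain ⟨c, hc⟩ := exists_bcConst (π s) I
    refine ⟨(asIso q).symm ≪≫ c, fun i => ?_⟩
    have e1 : TwC.pt (X s) I i ≫ ((asIso q).symm ≪≫ c).inv = Ψ _ (TwC.pt (X s) I i ≫ c.inv) := by
      rw [← hq, Iso.trans_inv, Iso.symm_inv, asIso_hom, Category.assoc]
    rw [e1, ← hυ, hΨ]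
    refine (rel_pt_iff i).1 ?_
    have h2 := relFam_rel (eH' s) (eG' s) (T := (Over.map (π s)).obj (𝟙_ (Over (X s)))) (𝟙_ (Over (X s))).hom rfl
      (theta (π s) (TwC.pt (X s) I i ≫ c.inv))
    exact hc i ▸ h2

end Groth.Agent.DualTw
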