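import Groth.Agent.DualTw.Char
import Groth.Prelude.Def_TwC
import Groth.Prelude.Def_AutFam

/-!
# Families of characters of a group which is constant over a scheme over the base
-/

universe u

set_option autoImplicit false
set_option backward.isDefEq.respectTransparency false
set_option backward.isDefEq.respectTransparency.types false
set_option linter.style.haveILetI false

open CategoryTheory CategoryTheory.Limits MonoidalCategory CartesianMonoidalCategory MonObj AlgebraicGeometry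
open Groth.Agent.DSPtsLib

namespace Groth.Agent.DualTw

variable {S X : Scheme.{u}} {R : Over S} [GrpObj R] {f : X ⟶ S} {M : Type} [Group M]
  (e : Red.bc f R ≅ TwC.const X M)

/-- The sections of the splitting. -/
noncomputable def sig (m : M) : X ⟶ R.left := (TwC.pt X M m ≫ e.inv).left ≫ pullback.fst R.hom f

theorem sig_hom (m : M) : sig e m ≫ R.hom = f := by
  rw [sig, Category.assoc, pullback.condition, ← Category.assoc,
    show (TwC.pt X M m ≫ e.inv).left ≫ pullback.snd R.hom f = 𝟙 X from Over.w (TwC.pt X M m ≫ e.inv),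
    Category.id_comp]

/-- The sections as points. -/
noncomputable def sT {T : Over S} (x : T.left ⟶ X) (h : x ≫ f = T.hom) (m : M) : T ⟶ R :=
  Over.homMk (x ≫ sig e m) (by rw [Category.assoc, sig_hom, h])

theorem sT_comp {T T' : Over S} (g : T' ⟶ T) (x : T.left ⟶ X) (h : x ≫ f = T.hom) (y : T'.left ⟶ X)
    (h' : y ≫ f = T'.hom) (hy : g.left ≫ x = y) (m : M) : g ≫ sT e x h m = sT e y h' m := by
  refine Over.OverMorphism.ext ?_
  show g.left ≫ x ≫ sig e m = y ≫ sig e m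
  rw [← hy, Category.assoc]

theorem sT_mul (he : TwC.IsConstGrp M (Red.bc f R) e) {T : Over S} (x : T.left ⟶ X) (h : x ≫ f = T.hom) (m n : M) :
    sT e x h (m * n) = sT e x h m * sT e x h n := by
  let j : T ⟶ (Over.map f).obj (Over.mk x) := Over.homMk (𝟙 T.left) (by
    show 𝟙 T.left ≫ x ≫ f = T.hom
    rw [Category.id_comp, h])
  have key : ∀ q : M, sT e x h q = j ≫ theta f (toUnit (Over.mk x) ≫ TwC.pt X M q ≫ e.inv) := fun q => by
    refine Over.OverMorphism.ext ?_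
    show x ≫ sig e q = 𝟙 T.left ≫ (toUnit (Over.mk x) ≫ TwC.pt X M q ≫ e.inv).left ≫ pullback.fst R.hom f
    rw [Category.id_comp, Over.comp_left _ _ _ (toUnit (Over.mk x)) _, Category.assoc]
    rfl
  rw [key, key, key, ← he m n, MonObj.comp_mul, theta_mul, MonObj.comp_mul]

/-- The classifying map of a point to the index scheme. -/
noncomputable def idx {T : Over S} (x : T.left ⟶ X) (h : x ≫ f = T.hom) (r : T ⟶ R) :
    T.left ⟶ ∐ fun _ : M => X :=
  pullback.lift r.left x (by rw [Over.w r, h]) ≫ e.hom.left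

/-- The locus where a point equals a given section. -/
noncomputable def opn {T : Over S} (x : T.left ⟶ X) (h : x ≫ f = T.hom) (r : T ⟶ R) (m : M) : T.left.Opens :=
  idx e x h r ⁻¹ᵁ (Sigma.ι (fun _ : M => X) m).opensRange

theorem exists_mem_opn {T : Over S} (x : T.left ⟶ X) (h : x ≫ f = T.hom) (r : T ⟶ R) (p : T.left) :
    ∃ m, p ∈ opn e x h r m := by
  obtain ⟨q, hq⟩ := (sigmaOpenCover (fun _ : M => X)).covers (idx e x h r p)
  exact ⟨_, q, hq⟩

theorem opn_unique {T : Over S} (x : T.left ⟶ X) (h : x ≫ f = T.hom) (r : T ⟶ R) {m n : M} {p : T.left}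
    (hm : p ∈ opn e x h r m) (hn : p ∈ opn e x h r n) : m = n := by
  obtain ⟨a, ha⟩ := hm
  obtain ⟨b, hb⟩ := hn
  exact (Sigma.mk.inj ((sigmaι_eq_iff (fun _ : M => X) m n a b).1 (ha.trans hb.symm))).1

theorem eq_sT_of_range {T T' : Over S} (x : T.left ⟶ X) (h : x ≫ f = T.hom) (r : T ⟶ R) {m : M} (g : T' ⟶ T)
    (hg : Set.range g.left ⊆ opn e x h r m) (y : T'.left ⟶ X) (h' : y ≫ f = T'.hom) (hy : g.left ≫ x = y) :
    g ≫ r = sT e y h' m := by
  have hr : Set.range (g.left ≫ idx e x h r) ⊆ Set.range (Sigma.ι (fun _ : M => X) m) := by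
    rintro _ ⟨p, rfl⟩
    exact hg ⟨p, rfl⟩
  let l := IsOpenImmersion.lift (Sigma.ι (fun _ : M => X) m) (g.left ≫ idx e x h r) hr
  have hl : l ≫ Sigma.ι (fun _ : M => X) m = g.left ≫ idx e x h r := IsOpenImmersion.lift_fac _ _ _
  have hly : l = y := by
    have e1 := congrArg (fun z => z ≫ Sigma.desc fun _ : M => 𝟙 X) hl
    simp only [Category.assoc, Sigma.ι_desc, Category.comp_id] at e1
    rw [e1, idx, Category.assoc, show e.hom.left ≫ (Sigma.desc fun _ : M => 𝟙 X) = pullback.snd R.hom f from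
      Over.w e.hom, pullback.lift_snd, hy]
  have e2 : g.left ≫ pullback.lift r.left x (by rw [Over.w r, h]) = y ≫ (TwC.pt X M m ≫ e.inv).left := by
    rw [← cancel_mono e.hom.left, Category.assoc, Category.assoc, ← Over.comp_left _ _ _ _ e.hom, Category.assoc,
      e.inv_hom_id, Category.comp_id]
    show g.left ≫ idx e x h r = y ≫ Sigma.ι (fun _ : M => X) m
    rw [← hly, hl]
  refine Over.OverMorphism.ext ?_
  have e3 := congrArg (fun z => z ≫ pullback.fst R.hom f) e2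
  simp only [Category.assoc, pullback.lift_fst] at e3
  exact e3

theorem opn_sT {T : Over S} (x : T.left ⟶ X) (h : x ≫ f = T.hom) (m : M) : opn e x h (sT e x h m) m = ⊤ := by
  have e1 : pullback.lift (sT e x h m).left x (by rw [Over.w (sT e x h m), h]) = x ≫ (TwC.pt X M m ≫ e.inv).left := by
    refine pullback.hom_ext ?_ ?_
    · rw [pullback.lift_fst, Category.assoc]; rfl
    · rw [pullback.lift_snd, Category.assoc,
        show (TwC.pt X M m ≫ e.inv).left ≫ pullback.snd R.hom f = 𝟙 X from Over.w (TwC.pt X M m ≫ e.inv),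
        Category.comp_id]
  have e2 : idx e x h (sT e x h m) = x ≫ Sigma.ι (fun _ : M => X) m := by
    rw [idx, e1, Category.assoc, ← Over.comp_left _ _ _ _ e.hom, Category.assoc, e.inv_hom_id, Category.comp_id]
    rfl
  refine top_le_iff.1 fun p _ => ⟨x p, ?_⟩
  rw [e2]
  rfl

/-- The piece of a point. -/
noncomputable abbrev piece {T : Over S} (U : T.left.Opens) : Over.mk (U.ι ≫ T.hom) ⟶ T := Over.homMk U.ι rfl

theorem hom_ext_pieces {T : Over S} (x : T.left ⟶ X) (h : x ≫ f = T.hom) (r : T ⟶ R) {Z : Over S} {a b : T ⟶ Z}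
    (hab : ∀ m, piece (opn e x h r m) ≫ a = piece (opn e x h r m) ≫ b) : a = b := by
  refine Over.OverMorphism.ext (Scheme.Cover.hom_ext (T.left.openCoverOfIsOpenCover (opn e x h r)
    (TopologicalSpace.IsOpenCover.mk (top_le_iff.1 fun p _ => ?_))) _ _ fun m => congrArg CommaMorphism.left (hab m))
  obtain ⟨m, hm⟩ := exists_mem_opn e x h r p
  exact TopologicalSpace.Opens.mem_iSup.2 ⟨m, hm⟩

theorem family_ext {T : Over S} (x : T.left ⟶ X) (h : x ≫ f = T.hom) {Z : Over S} {φ φ' : R ⊗ T ⟶ Z}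
    (hm : ∀ m, lift (sT e x h m) (𝟙 T) ≫ φ = lift (sT e x h m) (𝟙 T) ≫ φ') : φ = φ' := by
  have hP : ((snd R T).left ≫ x) ≫ f = (R ⊗ T).hom := by rw [Category.assoc, h, Over.w]
  refine hom_ext_pieces e ((snd R T).left ≫ x) hP (fst R T) fun m => ?_
  let U := opn e ((snd R T).left ≫ x) hP (fst R T) m
  have e1 : piece U = (piece U ≫ snd R T) ≫ lift (sT e x h m) (𝟙 T) := by
    refine CartesianMonoidalCategory.hom_ext _ _ ?_ ?_
    · rw [Category.assoc, lift_fst,
        sT_comp e (piece U ≫ snd R T) x h (U.ι ≫ (snd R T).left ≫ x) (by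
          show _ ≫ f = U.ι ≫ (R ⊗ T).hom
          rw [Category.assoc, hP]) (by rw [Over.comp_left, Category.assoc]; rfl) m]
      exact eq_sT_of_range e _ hP (fst R T) (piece U) (by rintro _ ⟨p, rfl⟩; exact p.2) _ _ rfl
    · simp
  rw [e1, Category.assoc, Category.assoc, Category.assoc, Category.assoc, hm]

theorem exists_family {T : Over S} (he : TwC.IsConstGrp M (Red.bc f R) e) (x : T.left ⟶ X) (h : x ≫ f = T.hom)
    (c : M → (T ⟶ Red.Gm S)) (hc : ∀ m n, c (m * n) = c m * c n) :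
    ∃ φ : R ⊗ T ⟶ Red.Gm S, AutFam.IsHomFamily R (Red.Gm S) φ ∧ ∀ m, lift (sT e x h m) (𝟙 T) ≫ φ = c m := by
  have hP : ((snd R T).left ≫ x) ≫ f = (R ⊗ T).hom := by rw [Category.assoc, h, Over.w]
  let U := opn e ((snd R T).left ≫ x) hP (fst R T)
  let 𝒰 := (R ⊗ T).left.openCoverOfIsOpenCover U (TopologicalSpace.IsOpenCover.mk (top_le_iff.1 fun p _ => by
    obtain ⟨m, hm⟩ := exists_mem_opn e ((snd R T).left ≫ x) hP (fst R T) p
    exact TopologicalSpace.Opens.mem_iSup.2 ⟨m, hm⟩))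
  have hcompat : ∀ m n : M, pullback.fst (𝒰.f m) (𝒰.f n) ≫ (U m).ι ≫ (snd R T ≫ c m).left =
      pullback.snd (𝒰.f m) (𝒰.f n) ≫ (U n).ι ≫ (snd R T ≫ c n).left := by
    intro m n
    by_cases hmn : m = n
    · subst hmn
      rw [show pullback.fst (𝒰.f m) (𝒰.f m) = pullback.snd (𝒰.f m) (𝒰.f m) from
        fst_eq_snd_of_mono_eq (U m).ι]
    · haveI : IsEmpty (pullback (𝒰.f m) (𝒰.f n) : Scheme.{u}) := ⟨fun z => hmn (opn_unique e ((snd R T).left ≫ x) hP (fst R T)
        (pullback.fst (𝒰.f m) (𝒰.f n) z).2 (by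
          have := congrArg (fun q : pullback (𝒰.f m) (𝒰.f n) ⟶ (R ⊗ T).left => q z) (pullback.condition (f := 𝒰.f m) (g := 𝒰.f n))
          change ((pullback.fst (𝒰.f m) (𝒰.f n) z).1 : (R ⊗ T).left) = (pullback.snd (𝒰.f m) (𝒰.f n) z).1 at this
          rw [this]
          exact (pullback.snd (𝒰.f m) (𝒰.f n) z).2))⟩
      exact (isInitialOfIsEmpty).hom_ext _ _
  let φl : (R ⊗ T).left ⟶ (Red.Gm S).left :=
    𝒰.glueMorphisms (fun m => (U m).ι ≫ (snd R T ≫ c m).left) hcompat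
  have hφl : ∀ m, (U m).ι ≫ φl = (U m).ι ≫ (snd R T ≫ c m).left := fun m => 𝒰.ι_glueMorphisms _ hcompat m
  let φ : R ⊗ T ⟶ Red.Gm S := Over.homMk φl (Scheme.Cover.hom_ext 𝒰 _ _ fun m => by
    show (U m).ι ≫ φl ≫ (Red.Gm S).hom = (U m).ι ≫ (R ⊗ T).hom
    rw [reassoc_of% (hφl m), Over.w (snd R T ≫ c m)])
  have hval : ∀ m, lift (sT e x h m) (𝟙 T) ≫ φ = c m := by
    intro m
    have hy : (lift (sT e x h m) (𝟙 T)).left ≫ (snd R T).left ≫ x = x := by
      rw [← Category.assoc, ← Over.comp_left _ _ _ _ (snd R T), lift_snd]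
      exact Category.id_comp x
    have hrg : Set.range (lift (sT e x h m) (𝟙 T)).left ⊆ Set.range (U m).ι := by
      rw [Scheme.Opens.range_ι]
      rintro _ ⟨p, rfl⟩
      have e1 : (lift (sT e x h m) (𝟙 T)).left ≫ idx e ((snd R T).left ≫ x) hP (fst R T) = idx e x h (sT e x h m) := by
        rw [idx, idx, ← Category.assoc]
        refine congrArg (· ≫ e.hom.left) (pullback.hom_ext ?_ ?_)
        · rw [Category.assoc, pullback.lift_fst, pullback.lift_fst, ← Over.comp_left _ _ _ _ (fst R T), lift_fst]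
        · rw [Category.assoc, pullback.lift_snd, pullback.lift_snd, hy]
      have hp : p ∈ opn e x h (sT e x h m) m := by rw [opn_sT]; trivial
      change idx e x h (sT e x h m) p ∈ (Sigma.ι (fun _ : M => X) m).opensRange at hp
      rw [← e1] at hp
      exact hp
    refine Over.OverMorphism.ext ?_
    show (lift (sT e x h m) (𝟙 T)).left ≫ φl = (c m).left
    rw [← IsOpenImmersion.lift_fac (U m).ι _ hrg, Category.assoc, hφl, IsOpenImmersion.lift_fac_assoc,
      ← Over.comp_left _ _ _ _ (snd R T ≫ c m), lift_snd_assoc, Category.id_comp]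
  refine ⟨φ, fun Y g₁ g₂ t => ?_, hval⟩
  have hY : (t.left ≫ x) ≫ f = Y.hom := by rw [Category.assoc, h, Over.w t]
  refine hom_ext_pieces e (t.left ≫ x) hY g₁ fun m => ?_
  let Y₁ : Over S := Over.mk ((opn e (t.left ≫ x) hY g₁ m).ι ≫ Y.hom)
  let j : Y₁ ⟶ Y := piece (opn e (t.left ≫ x) hY g₁ m)
  have hY₁ : (j.left ≫ t.left ≫ x) ≫ f = Y₁.hom := by rw [Category.assoc, hY, Over.w j]
  refine hom_ext_pieces e (j.left ≫ t.left ≫ x) hY₁ (j ≫ g₂) fun n => ?_
  let Y₂ : Over S := Over.mk ((opn e (j.left ≫ t.left ≫ x) hY₁ (j ≫ g₂) n).ι ≫ Y₁.hom)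
  let k : Y₂ ⟶ Y₁ := piece (opn e (j.left ≫ t.left ≫ x) hY₁ (j ≫ g₂) n)
  have hY₂ : (k.left ≫ j.left ≫ t.left ≫ x) ≫ f = Y₂.hom := by rw [Category.assoc, hY₁, Over.w k]
  have e₁ : k ≫ j ≫ g₁ = sT e _ hY₂ m := by
    rw [eq_sT_of_range e _ hY g₁ j (by rintro _ ⟨p, rfl⟩; exact p.2) _ hY₁ rfl, sT_comp e k _ hY₁ _ hY₂ rfl]
  have e₂ : k ≫ j ≫ g₂ = sT e _ hY₂ n :=
    eq_sT_of_range e _ hY₁ (j ≫ g₂) k (by rintro _ ⟨p, rfl⟩; exact p.2) _ hY₂ rfl
  have hkey : ∀ q : M, lift (sT e _ hY₂ q) (k ≫ j ≫ t) ≫ φ = (k ≫ j ≫ t) ≫ c q := fun q => by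
    rw [← hval q, comp_lift_assoc, Category.comp_id,
      sT_comp e (k ≫ j ≫ t) x h (k.left ≫ j.left ≫ t.left ≫ x) hY₂ (by simp only [Over.comp_left, Category.assoc]) q]
  show k ≫ j ≫ lift (g₁ * g₂) t ≫ φ = k ≫ j ≫ ((lift g₁ t ≫ φ) * (lift g₂ t ≫ φ))
  rw [MonObj.comp_mul, MonObj.comp_mul, comp_lift_assoc, comp_lift_assoc, comp_lift_assoc, comp_lift_assoc,
    comp_lift_assoc, comp_lift_assoc, MonObj.comp_mul, MonObj.comp_mul, e₁, e₂, ← sT_mul e he, hkey, hkey, hkey,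
    hc, MonObj.comp_mul]

end Groth.Agent.DualTw
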