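import Groth.Agent.DualTw.Fam
import Groth.Agent.DualTw.Rep
import Groth.Agent.TorsTwist.Torsor
import Groth.Agent.FpqcDescLib.Basic
import Groth.Agent.GrpSchLib.MultTypeBC

/-!
# The scheme of characters of a twisted constant group
-/

universe u

set_option autoImplicit false
set_option backward.isDefEq.respectTransparency false
set_option backward.isDefEq.respectTransparency.types false
set_option linter.style.haveILetI false

open CategoryTheory CategoryTheory.Limits MonoidalCategory CartesianMonoidalCategory MonObj AlgebraicGeometry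
open Opposite
open Groth.Agent.DSPtsLib

namespace Groth.Agent.DualTw

variable {S : Scheme.{u}} {R : Over S} [GrpObj R]

theorem isMonHom_of_mul {C : Type*} [Category C] [CartesianMonoidalCategory C] {A B : C} [GrpObj A] [GrpObj B]
    (e : A ⟶ B) (h : ∀ (T : C) (a b : T ⟶ A), (a * b) ≫ e = (a ≫ e) * (b ≫ e)) : IsMonHom e := by
  constructor
  · have h1 := h _ (1 : 𝟙_ C ⟶ A) 1
    rw [_root_.one_mul, left_eq_mul] at h1
    rwa [Hom.one_def, Hom.one_def, toUnit_unique (toUnit _) (𝟙 _), Category.id_comp, Category.id_comp] at h1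
  · have h1 := h _ (fst A A) (snd A A)
    rw [Hom.mul_def, Hom.mul_def, lift_fst_snd, Category.id_comp] at h1
    rw [h1, ← lift_map, lift_fst_snd, Category.id_comp]

variable (R) in
/-- The scheme of characters of a twisted constant group. -/
theorem exists_dual (hR : TwC.Locally S TwC.Topology.fpqc
    (fun S' f => ∃ (M : Type) (_ : Group M) (e : Red.bc f R ≅ TwC.const S' M), TwC.IsConstGrp M (Red.bc f R) e)) :
    ∃ (D : Over S) (_ : GrpObj D) (υ : R ⊗ D ⟶ Red.Gm S), AutFam.RepresentsHom R (Red.Gm S) D υ ∧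
      (∀ (X : Over S) (r : X ⟶ R) (a b : X ⟶ D), lift r (a * b) ≫ υ = (lift r a ≫ υ) * (lift r b ≫ υ)) ∧
      TwC.Locally S TwC.Topology.fpqc (fun S' f => ∃ (M : Type) (_ : AddCommGroup M),
        Nonempty (Grp.mk (Red.bc f D) ≅ Grp.mk (Red.DS S' M))) := by
  obtain ⟨S', f, hfl, hsurj, hqc, hloc⟩ := hR
  choose U hsU M hM e he using hloc
  letI := hM
  let X : S' → Scheme.{u} := fun s => (U s : Scheme.{u})
  let π : ∀ s, X s ⟶ S := fun s => (U s).ι ≫ f
  have hUcov : Presieve.ofArrows X (fun s => (U s).ι) ∈ Scheme.fpqcPrecoverage S' :=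
    Scheme.zariskiPrecoverage_le_fpqcPrecoverage _ (S'.openCoverOfIsOpenCover U
      (TopologicalSpace.IsOpenCover.mk (top_le_iff.1 fun p _ => TopologicalSpace.Opens.mem_iSup.2 ⟨p, hsU p⟩))).mem₀
  have hcov : Presieve.ofArrows X π ∈ Scheme.fpqcPrecoverage S := by
    have h1 := FpqcDescLib.isCovering_of_flat f hqc
    rw [FpqcDescLib.IsCovering, ← Presieve.ofArrows_pUnit.{u}] at h1
    have h2 := Precoverage.comp_mem_coverings (J := Scheme.fpqcPrecoverage) (fun _ : PUnit.{u + 1} => f) h1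
      (fun _ => fun s => (U s).ι) (fun _ => hUcov)
    refine (le_antisymm ?_ ?_ : Presieve.ofArrows X π = Presieve.ofArrows (fun p : Σ _ : PUnit.{u + 1}, S' => X p.2)
      (fun p => (U p.2).ι ≫ f)) ▸ h2
    · rintro Y g ⟨s⟩
      exact ⟨(⟨⟨⟩, s⟩ : Σ _ : PUnit.{u + 1}, S')⟩
    · rintro Y g ⟨p⟩
      exact ⟨p.2⟩
  let L : LocRep π (famFunctor R ⋙ forget GrpCat) :=
    { A := fun s => Red.DS S (Additive (Abelianization (M s)))
      θ := fun T s x h => Equiv.ofBijective _ (toFam_bijective (e s) (he s) x h)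
      nat := fun T T' g s x h y k hy a => Subtype.ext (toFam_nat (e s) (he s) g x h y k hy a) }
  obtain ⟨D, ⟨α⟩⟩ := exists_representableBy L hcov
    (fun s => MorphismProperty.pullback_snd _ _ (inferInstanceAs (IsAffineHom
      (Spec.map (CommRingCat.ofHom (algebraMap (ULift.{u} ℤ)
        (MonoidAlgebra (ULift.{u} ℤ) (Multiplicative (Additive (Abelianization (M s)))))))))))
    (fun T φ φ' H => Subtype.ext (TorsTwist.hom_ext_family π hcov fun T' g s x h => by
      have := congrArg (fun z => lift (g ≫ fst R T) (𝟙 T') ≫ z) (congrArg Subtype.val (H (g ≫ snd R T) x h))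
      change lift (g ≫ fst R T) (𝟙 T') ≫ (R ◁ (g ≫ snd R T)) ≫ φ.1 =
        lift (g ≫ fst R T) (𝟙 T') ≫ (R ◁ (g ≫ snd R T)) ≫ φ'.1 at this
      simpa [lift_whiskerLeft_assoc, ← comp_lift_assoc] using this))
    (fun T a han hac => by
      obtain ⟨φ, hφ⟩ := TorsTwist.exists_glue_hom π hcov (T := R ⊗ T) (B := Red.Gm S)
        (fun T' g s x h => lift (g ≫ fst R T) (𝟙 T') ≫ (a (g ≫ snd R T) x h).1)
        (fun T' T'' g k s x h y h' e1 => by
          show lift ((k ≫ g) ≫ fst R T) (𝟙 T'') ≫ (a ((k ≫ g) ≫ snd R T) y h').1 = _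
          have := congrArg Subtype.val (han (g ≫ snd R T) k x h y h' e1)
          simp only [← Category.assoc] at this
          rw [this]
          show lift ((k ≫ g) ≫ fst R T) (𝟙 T'') ≫ (R ◁ k) ≫ (a (g ≫ snd R T) x h).1 = _
          rw [lift_whiskerLeft_assoc, Category.id_comp, comp_lift_assoc, Category.comp_id, Category.assoc])
        (fun T' g s s' x x' h h' => by rw [hac (g ≫ snd R T) x x' h h'])
      have hfam : AutFam.IsHomFamily R (Red.Gm S) φ := by
        intro Y g₁ g₂ t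
        refine TorsTwist.hom_ext_family π hcov fun Y' k s x h => ?_
        simp only [comp_lift_assoc, MonObj.comp_mul]
        rw [hφ (lift ((k ≫ g₁) * (k ≫ g₂)) (k ≫ t)) x h, hφ (lift (k ≫ g₁) (k ≫ t)) x h,
          hφ (lift (k ≫ g₂) (k ≫ t)) x h]
        simp only [lift_fst, lift_snd]
        exact (a (k ≫ t) x h).2 Y' _ _ _
      refine ⟨⟨φ, hfam⟩, fun T' g s x h => Subtype.ext (TorsTwist.hom_ext_family π hcov fun T'' k j y hy => ?_)⟩
      show k ≫ (R ◁ g) ≫ φ = k ≫ (a g x h).1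
      rw [← Category.assoc, hφ (k ≫ (R ◁ g)) y hy]
      simp only [Category.assoc, whiskerLeft_fst, whiskerLeft_snd]
      have hx : ((k ≫ snd R T').left ≫ x) ≫ π s = T''.hom := by rw [Category.assoc, h, Over.w]
      have h1 := han g (k ≫ snd R T') x h _ hx rfl
      rw [Category.assoc] at h1
      rw [← hac (k ≫ snd R T' ≫ g) ((k ≫ snd R T').left ≫ x) y hx hy] at h1
      rw [h1]
      show lift (k ≫ fst R T') (𝟙 T'') ≫ (R ◁ (k ≫ snd R T')) ≫ (a g x h).1 = k ≫ (a g x h).1
      rw [lift_whiskerLeft_assoc, Category.id_comp, ← comp_lift_assoc, lift_fst_snd, Category.id_comp])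
  letI iD : GrpObj D := GrpObj.ofRepresentableBy D (famFunctor R) α
  have hmul : ∀ {T : Over S} (a b : T ⟶ D),
      (α.homEquiv (a * b) : fam R T) = (α.homEquiv a : fam R T) * α.homEquiv b := fun {T} a b =>
    map_mul ((yonedaGrpObjIsoOfRepresentableBy D (famFunctor R) α).hom.app (op T)).hom a b
  let υ : fam R D := α.homEquiv (𝟙 D)
  have hυ : ∀ {T : Over S} (a : T ⟶ D), (α.homEquiv a : fam R T).1 = (R ◁ a) ≫ υ.1 := fun {T} a => by
    have := congrArg Subtype.val (α.homEquiv_comp a (𝟙 D))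
    rw [Category.comp_id] at this
    exact this
  refine ⟨D, iD, υ.1, ⟨υ.2, fun T φ hφ => ?_⟩, fun Y r a b => ?_, S', f, hfl, hsurj, hqc, fun s => ?_⟩
  · refine ⟨α.homEquiv.symm ⟨φ, hφ⟩, ?_, fun a ha => ?_⟩
    · show (R ◁ α.homEquiv.symm ⟨φ, hφ⟩) ≫ υ.1 = φ
      rw [← hυ, Equiv.apply_symm_apply]
    · apply α.homEquiv.injective
      rw [Equiv.apply_symm_apply]
      exact Subtype.ext ((hυ a).trans ha)
  · have key : ∀ c : Y ⟶ D, lift r c ≫ υ.1 = lift r (𝟙 Y) ≫ (α.homEquiv c : fam R Y).1 := fun c => by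
      rw [hυ c, lift_whiskerLeft_assoc, Category.id_comp]
    rw [key, key, key, hmul a b]
    exact MonObj.comp_mul _ _ _
  · refine ⟨U s, hsU s, Additive (Abelianization (M s)), inferInstance, ?_⟩
    let M' := Additive (Abelianization (M s))
    let P := Red.bc (π s) (Red.DS S M')
    let Q := Red.bc (π s) D
    have hx : ∀ Y : Over (X s), Y.hom ≫ π s = ((Over.map (π s)).obj Y).hom := fun Y => rfl
    let Ψ : ∀ Y : Over (X s), (Y ⟶ P) ≃ (Y ⟶ Q) := fun Y =>
      (Equiv.ofBijective _ (theta_bijective (π s) (H := Red.DS S M'))).trans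
        (((Equiv.ofBijective _ (toFam_bijective (e s) (he s) (T := (Over.map (π s)).obj Y) Y.hom (hx Y))).trans
          α.homEquiv.symm).trans (Equiv.ofBijective _ (theta_bijective (π s) (H := D))).symm)
    have hΨ : ∀ {Y : Over (X s)} (a : Y ⟶ P), (α.homEquiv (theta (π s) (Ψ Y a)) : fam R ((Over.map (π s)).obj Y)) =
        toFam (e s) (he s) (T := (Over.map (π s)).obj Y) Y.hom (hx Y) (theta (π s) a) := fun {Y} a => by
      have h1 : theta (π s) (Ψ Y a) = α.homEquiv.symm
          (toFam (e s) (he s) (T := (Over.map (π s)).obj Y) Y.hom (hx Y) (theta (π s) a)) :=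
        (Equiv.ofBijective _ (theta_bijective (π s) (H := D))).apply_symm_apply _
      rw [h1, Equiv.apply_symm_apply]
    have hΨmul : ∀ {Y : Over (X s)} (a b : Y ⟶ P), Ψ Y (a * b) = Ψ Y a * Ψ Y b := fun {Y} a b => by
      refine (theta_bijective (π s)).injective (α.homEquiv.injective ?_)
      rw [theta_mul]
      refine ((hΨ (a * b)).trans ?_).trans (hmul _ _).symm
      rw [hΨ, hΨ, theta_mul, toFam_mul]
    have hΨnat : ∀ {Y Y' : Over (X s)} (g : Y' ⟶ Y) (a : Y ⟶ P), Ψ Y' (g ≫ a) = g ≫ Ψ Y a := fun {Y Y'} g a => by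
      refine (theta_bijective (π s)).injective (α.homEquiv.injective ?_)
      refine (hΨ (g ≫ a)).trans (Subtype.ext ?_)
      rw [theta_comp, theta_comp, toFam_nat (e s) (he s) ((Over.map (π s)).map g) Y.hom (hx Y) Y'.hom (hx Y') (Over.w g), hυ,
        whiskerLeft_comp, Category.assoc, ← hυ (theta (π s) (Ψ Y a)), hΨ]
    let q : P ⟶ Q := Ψ P (𝟙 P)
    have hq : ∀ {Y : Over (X s)} (a : Y ⟶ P), a ≫ q = Ψ Y a := fun {Y} a => by
      rw [← hΨnat a (𝟙 P), Category.comp_id]
    haveI : IsMonHom q := isMonHom_of_mul q fun Y a b => by rw [hq, hq, hq, hΨmul]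
    haveI : IsIso q := ⟨(Ψ Q).symm (𝟙 Q), (Ψ P).injective (by
        rw [hΨnat, Equiv.apply_symm_apply, Category.comp_id]), by rw [hq, Equiv.apply_symm_apply]⟩
    obtain ⟨e'⟩ := GrpSchLib.MultTypeBC.bc_DS (π s) M'
    exact ⟨(Grp.mkIso' (asIso q)).symm ≪≫ e'⟩

end Groth.Agent.DualTw
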