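import Groth.Agent.DualTw.Char
import Mathlib.AlgebraicGeometry.AffineScheme
import Mathlib.AlgebraicGeometry.ResidueField

/-!
# Characters of a diagonalisable group over a scheme are locally given by the character group

A natural multiplicative family of units attached to the points of `D_S(M) ×_S T` is, locally on `T`, the family attached to
an element of `M`, unique over a non-empty open.
-/

universe u

set_option autoImplicit false
set_option backward.isDefEq.respectTransparency false
set_option backward.isDefEq.respectTransparency.types false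
set_option linter.style.haveILetI false

open CategoryTheory CategoryTheory.Limits MonoidalCategory CartesianMonoidalCategory MonObj AlgebraicGeometry
open Groth.Agent.DSPtsLib

namespace Groth.Agent.DualTw

variable {S : Scheme.{u}} {M : Type} [AddCommGroup M] {T : Over S}

/-- A natural multiplicative family of units on the points of `D_S(M) ×_S T`. -/
structure Pairing (M : Type) [AddCommGroup M] (T : Over S) where
  /-- the values -/
  val : ∀ ⦃Y : Over S⦄, (Y ⟶ Red.DS S M) → (Y ⟶ T) → Γ(Y.left, ⊤)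
  nat : ∀ ⦃Y Y' : Over S⦄ (k : Y' ⟶ Y) (g : Y ⟶ Red.DS S M) (t : Y ⟶ T),
    val (k ≫ g) (k ≫ t) = k.left.appTop (val g t)
  mul : ∀ ⦃Y : Over S⦄ (g₁ g₂ : Y ⟶ Red.DS S M) (t : Y ⟶ T), val (g₁ * g₂) t = val g₁ t * val g₂ t
  unit : ∀ ⦃Y : Over S⦄ (g : Y ⟶ Red.DS S M) (t : Y ⟶ T), IsUnit (val g t)

theorem one_mul_one' {C : Type*} [Category C] [CartesianMonoidalCategory C] {A B : C} [MonObj B] :
    (1 : A ⟶ B) * 1 = 1 := _root_.one_mul 1

theorem Pairing.val_one (P : Pairing M T) {Y : Over S} (t : Y ⟶ T) : P.val 1 t = 1 := by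
  have h := P.mul (1 : Y ⟶ Red.DS S M) 1 t
  rw [one_mul_one'] at h
  refine (P.unit 1 t).mul_left_cancel ?_
  rw [_root_.mul_one]
  exact h.symm

theorem chv_one {Y : Over S} (a : Multiplicative M) : chv (1 : Y ⟶ Red.DS S M) a = 1 := by
  have h := chv_mul (1 : Y ⟶ Red.DS S M) 1 a
  rw [one_mul_one'] at h
  refine ((chv (1 : Y ⟶ Red.DS S M)).toHomUnits a).isUnit.mul_left_cancel ?_
  rw [_root_.mul_one]
  exact h.symm

section Coeff

variable {B : Type u} [CommRing B] {G : Type} [CommMonoid G]

open MonoidAlgebra in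
theorem coeff_inl_mul_inr (x z : MonoidAlgebra B G) (a b : G) :
    (mapDomainRingHom B (MonoidHom.inl G G) x * mapDomainRingHom B (MonoidHom.inr G G) z).coeff (a, b) =
      x.coeff a * z.coeff b := by
  classical
  induction x using MonoidAlgebra.induction_linear with
  | zero => simp
  | add p r hp hr => rw [map_add, add_mul, coeff_add, Finsupp.add_apply, hp, hr, coeff_add, Finsupp.add_apply, add_mul]
  | single a' s =>
    induction z using MonoidAlgebra.induction_linear with
    | zero => simp
    | add p r hp hr => rw [map_add, mul_add, coeff_add, Finsupp.add_apply, hp, hr, coeff_add, Finsupp.add_apply, mul_add]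
    | single b' r =>
      rw [mapDomainRingHom_apply, mapDomainRingHom_apply, mapDomain_single, mapDomain_single, single_mul_single,
        coeff_single, coeff_single, coeff_single, Finsupp.single_apply, Finsupp.single_apply, Finsupp.single_apply]
      by_cases h1 : a' = a <;> by_cases h2 : b' = b <;> simp [MonoidHom.inl_apply, MonoidHom.inr_apply, h1, h2]

open MonoidAlgebra in
theorem coeff_diag [DecidableEq G] (x : MonoidAlgebra B G) (a b : G) :
    (mapDomainRingHom B ((MonoidHom.id G).prod (MonoidHom.id G)) x).coeff (a, b) = if a = b then x.coeff a else 0 := by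
  induction x using MonoidAlgebra.induction_linear with
  | zero => simp
  | add p r hp hr =>
    rw [map_add, coeff_add, Finsupp.add_apply, hp, hr, coeff_add, Finsupp.add_apply]
    split <;> simp
  | single a' s =>
    rw [mapDomainRingHom_apply, mapDomain_single, coeff_single, coeff_single, Finsupp.single_apply, Finsupp.single_apply]
    by_cases h1 : a' = a <;> by_cases h2 : a = b <;> simp_all

end Coeff

theorem appTop_toSpecΓ_comp {X : Scheme.{u}} {R : CommRingCat.{u}} (f : R ⟶ Γ(X, ⊤)) :
    (Scheme.ΓSpecIso R).inv ≫ (X.toSpecΓ ≫ Spec.map f).appTop = f := by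
  rw [Scheme.Hom.comp_appTop, ← Scheme.ΓSpecIso_inv_naturality_assoc, Scheme.toSpecΓ_appTop, Iso.inv_hom_id,
    Category.comp_id]

section Local

variable (P : Pairing M T) {V : T.left.Opens} (hV : IsAffineOpen V)

/-- The group algebra over an affine piece of the base. -/
abbrev LocC (M : Type) [AddCommGroup M] (V : T.left.Opens) : Type u := MonoidAlgebra Γ(T.left, V) (Multiplicative M)

/-- The group over an affine piece. -/
noncomputable abbrev locY : Over S :=
  Over.mk ((Spec.map (CommRingCat.ofHom (algebraMap Γ(T.left, V) (LocC M V))) ≫ hV.fromSpec) ≫ T.hom)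

/-- The projection of the group over an affine piece. -/
noncomputable def locT : locY (M := M) hV ⟶ T :=
  Over.homMk (Spec.map (CommRingCat.ofHom (algebraMap Γ(T.left, V) (LocC M V))) ≫ hV.fromSpec) rfl

theorem exists_locG : ∃ g : locY (M := M) hV ⟶ Red.DS S M, ∀ a, chv g a =
    (Scheme.ΓSpecIso (CommRingCat.of (LocC M V))).inv (MonoidAlgebra.single a 1) := by
  obtain ⟨g, hg⟩ := exists_chv (T := locY (M := M) hV) (M := M)
    ((Scheme.ΓSpecIso (CommRingCat.of (LocC M V))).inv.hom.toMonoidHom.comp (MonoidAlgebra.of _ (Multiplicative M)))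
  exact ⟨g, fun a => DFunLike.congr_fun hg a⟩

/-- The tautological point. -/
noncomputable def locG : locY (M := M) hV ⟶ Red.DS S M := (exists_locG hV).choose

/-- The value on the tautological point. -/
noncomputable def locVal : LocC M V :=
  (Scheme.ΓSpecIso (CommRingCat.of (LocC M V))).hom (P.val (locG hV) (locT hV))

/-- The values are determined by the tautological one. -/
theorem val_eq {Y : Over S} (g : Y ⟶ Red.DS S M) (t : Y ⟶ T) (ψ : Γ(T.left, V) →+* Γ(Y.left, ⊤))
    (hψ : t.left = Y.left.toSpecΓ ≫ Spec.map (CommRingCat.ofHom ψ) ≫ hV.fromSpec) (f : LocC M V →+* Γ(Y.left, ⊤))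
    (hf : ∀ r, f (algebraMap _ _ r) = ψ r) (hg : ∀ a, f (MonoidAlgebra.single a 1) = chv g a) :
    P.val g t = f (locVal P hV) := by
  have e1 : Spec.map (CommRingCat.ofHom f) ≫ Spec.map (CommRingCat.ofHom (algebraMap Γ(T.left, V) (LocC M V))) =
      Spec.map (CommRingCat.ofHom ψ) := by
    rw [← Spec.map_comp, ← CommRingCat.ofHom_comp]
    exact congrArg (fun z => Spec.map (CommRingCat.ofHom z)) (RingHom.ext hf)
  have e2 : (Y.left.toSpecΓ ≫ Spec.map (CommRingCat.ofHom f)) ≫
      Spec.map (CommRingCat.ofHom (algebraMap Γ(T.left, V) (LocC M V))) ≫ hV.fromSpec = t.left := by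
    rw [hψ, ← e1]
    simp only [Category.assoc]
  let k : Y ⟶ locY (M := M) hV := Over.homMk (Y.left.toSpecΓ ≫ Spec.map (CommRingCat.ofHom f)) (by
    show _ ≫ ((Spec.map _ ≫ hV.fromSpec) ≫ T.hom) = Y.hom
    rw [← Category.assoc, e2, Over.w t])
  have ek : ∀ z, k.left.appTop ((Scheme.ΓSpecIso (CommRingCat.of (LocC M V))).inv z) = f z := fun z =>
    DFunLike.congr_fun (congrArg CommRingCat.Hom.hom (appTop_toSpecΓ_comp (CommRingCat.ofHom f))) z
  have ht : k ≫ locT hV = t := Over.OverMorphism.ext e2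
  have hgg : k ≫ locG hV = g := chv_injective (MonoidHom.ext fun a => by
    rw [chv_comp, locG, (exists_locG hV).choose_spec a, ek, hg])
  conv_lhs => rw [← hgg, ← ht]
  rw [P.nat, ← ek (locVal P hV)]
  exact congrArg _ ((Scheme.ΓSpecIso (CommRingCat.of (LocC M V))).hom_inv_id_apply _).symm

theorem spec_hψ (D : Type u) [CommRing D] (a : Γ(T.left, V) →+* D) :
    Spec.map (CommRingCat.ofHom a) ≫ hV.fromSpec = (Spec (CommRingCat.of D)).toSpecΓ ≫
      Spec.map (CommRingCat.ofHom (((Scheme.ΓSpecIso (CommRingCat.of D)).inv.hom).comp a)) ≫ hV.fromSpec := by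
  rw [CommRingCat.ofHom_comp, Spec.map_comp, Category.assoc, CommRingCat.ofHom_hom,
    ← Category.assoc (Spec (CommRingCat.of D)).toSpecΓ, toSpecΓ_SpecMap_ΓSpecIso_inv, Category.id_comp]

open MonoidAlgebra in
theorem coeff_mul_coeff [DecidableEq M] (a b : Multiplicative M) :
    (if a = b then (locVal P hV).coeff a else 0) = (locVal P hV).coeff a * (locVal P hV).coeff b := by
  let G := Multiplicative M
  let D := MonoidAlgebra Γ(T.left, V) (G × G)
  let Y : Over S := Over.mk ((Spec.map (CommRingCat.ofHom (algebraMap Γ(T.left, V) D)) ≫ hV.fromSpec) ≫ T.hom)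
  let t : Y ⟶ T := Over.homMk (Spec.map (CommRingCat.ofHom (algebraMap Γ(T.left, V) D)) ≫ hV.fromSpec) rfl
  let j : D →+* Γ(Y.left, ⊤) := (Scheme.ΓSpecIso (CommRingCat.of D)).inv.hom
  have hj : Function.Injective j :=
    Function.LeftInverse.injective (g := (Scheme.ΓSpecIso (CommRingCat.of D)).hom.hom)
      (fun z => (Scheme.ΓSpecIso (CommRingCat.of D)).inv_hom_id_apply z)
  have pt : ∀ φ : G →* G × G, ∃ g : Y ⟶ Red.DS S M,
      (∀ c, chv g c = j (single (φ c) 1)) ∧ P.val g t = j (mapDomainRingHom _ φ (locVal P hV)) := by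
    intro φ
    obtain ⟨g, hg⟩ := exists_chv (T := Y) (M := M) (((j : D →* _).comp (MonoidAlgebra.of _ (G × G))).comp φ)
    have hg' : ∀ c, chv g c = j (single (φ c) 1) := fun c => DFunLike.congr_fun hg c
    refine ⟨g, hg', val_eq P hV g t (j.comp (algebraMap _ D)) (spec_hψ hV D _) (j.comp (mapDomainRingHom _ φ))
      (fun r => congrArg j ?_) fun c => ?_⟩
    · rw [MonoidAlgebra.coe_algebraMap, MonoidAlgebra.coe_algebraMap]
      show mapDomain φ (single 1 r) = single 1 r
      rw [mapDomain_single, map_one]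
    · rw [RingHom.comp_apply, mapDomainRingHom_apply, mapDomain_single, hg']
  obtain ⟨g₁, h₁, v₁⟩ := pt (MonoidHom.inl G G)
  obtain ⟨g₂, h₂, v₂⟩ := pt (MonoidHom.inr G G)
  obtain ⟨g₃, h₃, v₃⟩ := pt ((MonoidHom.id G).prod (MonoidHom.id G))
  have hg : g₁ * g₂ = g₃ := chv_injective (MonoidHom.ext fun c => by
    rw [chv_mul, h₁, h₂, h₃, ← map_mul, single_mul_single]
    simp)
  have h := P.mul g₁ g₂ t
  rw [hg, v₁, v₂, v₃, ← map_mul] at h
  have := congrArg (fun z : D => z.coeff (a, b)) (hj h)
  exact ((coeff_diag _ a b).symm.trans this).trans (coeff_inl_mul_inr _ _ a b)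

open MonoidAlgebra in
theorem lift_one_locVal :
    MonoidAlgebra.lift Γ(T.left, V) Γ(T.left, V) (Multiplicative M) (1 : Multiplicative M →* Γ(T.left, V)) (locVal P hV) = 1 := by
  let D := Γ(T.left, V)
  let Y : Over S := Over.mk ((Spec.map (CommRingCat.ofHom (RingHom.id D)) ≫ hV.fromSpec) ≫ T.hom)
  let t : Y ⟶ T := Over.homMk (Spec.map (CommRingCat.ofHom (RingHom.id D)) ≫ hV.fromSpec) rfl
  let j : D →+* Γ(Y.left, ⊤) := (Scheme.ΓSpecIso (CommRingCat.of D)).inv.hom
  have hj : Function.Injective j :=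
    Function.LeftInverse.injective (g := (Scheme.ΓSpecIso (CommRingCat.of D)).hom.hom)
      (fun z => (Scheme.ΓSpecIso (CommRingCat.of D)).inv_hom_id_apply z)
  refine hj (Eq.trans (Eq.trans ?_ (P.val_one t)) (map_one j).symm)
  refine (val_eq P hV 1 t (j.comp (RingHom.id D)) (spec_hψ hV D _)
    (j.comp (MonoidAlgebra.lift D D (Multiplicative M) (1 : Multiplicative M →* D)).toRingHom) (fun r => ?_) fun a => ?_).symm
  · exact congrArg j ((MonoidAlgebra.lift D D (Multiplicative M) (1 : Multiplicative M →* D)).commutes r)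
  · rw [chv_one]
    exact (congrArg j ((MonoidAlgebra.lift_single _ _ _).trans (by simp))).trans (map_one j)

open MonoidAlgebra in
include hV in
/-- Locally on the base the family is given by an element of the character group. -/
theorem exists_local_aux (p : T.left) (hp : p ∈ V) :
    ∃ (W : T.left.Opens) (m : M), p ∈ W ∧ ∀ (Y : Over S) (g : Y ⟶ Red.DS S M) (t : Y ⟶ T),
      Set.range t.left ⊆ W → P.val g t = chv g (Multiplicative.ofAdd m) := by
  classical
  obtain ⟨a, ha⟩ : ∃ a, p ∈ T.left.basicOpen ((locVal P hV).coeff a) := by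
    by_contra hne
    push Not at hne
    let I := Ideal.comap (T.left.presheaf.germ V p hp).hom (IsLocalRing.maximalIdeal _)
    have hc : ∀ a, (locVal P hV).coeff a ∈ I := fun a => by
      have := hne a
      rw [Scheme.mem_basicOpen _ _ _ hp] at this
      exact this
    have h1 : (1 : Γ(T.left, V)) ∈ I := by
      rw [← lift_one_locVal P hV, MonoidAlgebra.lift_apply]
      exact Ideal.sum_mem _ fun a _ => Ideal.mul_mem_right _ _ (hc a)
    exact (Ideal.comap_ne_top _ (IsLocalRing.maximalIdeal.isMaximal _).ne_top) ((Ideal.eq_top_iff_one _).2 h1)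
  set c := (locVal P hV).coeff a with hc
  refine ⟨T.left.basicOpen c, Multiplicative.toAdd a, ha, fun Y g t ht => ?_⟩
  have htV : Set.range t.left ⊆ Set.range V.ι := by
    rw [Scheme.Opens.range_ι]
    exact ht.trans (T.left.basicOpen_le c)
  let q : Y.left ⟶ Spec Γ(T.left, V) := IsOpenImmersion.lift V.ι t.left htV ≫ hV.isoSpec.hom
  have hq : q ≫ hV.fromSpec = t.left := by
    rw [Category.assoc, IsAffineOpen.isoSpec_hom, IsAffineOpen.toSpecΓ_fromSpec, IsOpenImmersion.lift_fac]
  let ψ : Γ(T.left, V) →+* Γ(Y.left, ⊤) := ((Scheme.ΓSpecIso Γ(T.left, V)).inv ≫ q.appTop).hom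
  have hqψ : q = Y.left.toSpecΓ ≫ Spec.map (CommRingCat.ofHom ψ) := by
    refine ext_of_isAffine ?_
    show q.appTop = (Y.left.toSpecΓ ≫ Spec.map ((Scheme.ΓSpecIso Γ(T.left, V)).inv ≫ q.appTop)).appTop
    rw [Scheme.Hom.comp_appTop Y.left.toSpecΓ, Scheme.toSpecΓ_appTop, Scheme.ΓSpecIso_naturality,
      Iso.hom_inv_id_assoc]
  have hu : IsUnit (ψ c) := by
    have h1 : q ⁻¹ᵁ PrimeSpectrum.basicOpen c = ⊤ := by
      refine top_le_iff.1 fun y _ => ?_
      have : q y ∈ hV.fromSpec ⁻¹ᵁ T.left.basicOpen c := by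
        show (q ≫ hV.fromSpec) y ∈ T.left.basicOpen c
        rw [hq]
        exact ht ⟨y, rfl⟩
      rwa [hV.fromSpec_preimage_basicOpen] at this
    have h2 : Y.left.basicOpen (ψ c) = ⊤ :=
      Eq.trans ((Scheme.preimage_basicOpen_top q _).symm.trans (congrArg (q ⁻¹ᵁ ·) (basicOpen_eq_of_affine c))) h1
    exact RingedSpace.isUnit_of_isUnit_germ Y.left.toRingedSpace ⊤ (ψ c) fun y hy =>
      (Scheme.mem_basicOpen _ _ _ hy).1 (h2.ge hy)
  have h1 : ψ c = 1 := by
    have := congrArg ψ (coeff_mul_coeff P hV a a)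
    rw [if_pos rfl, map_mul] at this
    refine hu.mul_left_cancel ?_
    rw [_root_.mul_one]
    exact this.symm
  have h0 : ∀ b, b ≠ a → ψ ((locVal P hV).coeff b) = 0 := fun b hb => by
    have := congrArg ψ (coeff_mul_coeff P hV b a)
    rw [if_neg hb, map_zero, map_mul, ← hc, h1, _root_.mul_one] at this
    exact this.symm
  letI : Algebra Γ(T.left, V) Γ(Y.left, ⊤) := ψ.toAlgebra
  let f := MonoidAlgebra.lift Γ(T.left, V) Γ(Y.left, ⊤) (Multiplicative M) (chv g)
  rw [val_eq P hV g t ψ (by rw [← hq, hqψ, Category.assoc]) f.toRingHom (fun r => f.commutes r)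
    (fun b => by simp [f]), AlgHom.toRingHom_eq_coe]
  show f (locVal P hV) = _
  simp only [f, MonoidAlgebra.lift_apply, Algebra.smul_def]
  rw [Finsupp.sum, Finset.sum_eq_single a]
  · show ψ c * chv g a = _
    rw [h1, _root_.one_mul]
    rfl
  · intro b _ hb
    show ψ _ * chv g b = 0
    rw [h0 b hb, zero_mul]
  · intro hna
    show ψ c * chv g a = 0
    rw [hc, Finsupp.notMem_support_iff.1 hna, map_zero, zero_mul]

end Local

/-- Locally on the base the family is given by an element of the character group. -/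
theorem Pairing.exists_local (P : Pairing M T) (p : T.left) :
    ∃ (W : T.left.Opens) (m : M), p ∈ W ∧ ∀ (Y : Over S) (g : Y ⟶ Red.DS S M) (t : Y ⟶ T),
      Set.range t.left ⊆ W → P.val g t = chv g (Multiplicative.ofAdd m) := by
  obtain ⟨V, hV, hp, -⟩ := TopologicalSpace.Opens.isBasis_iff_nbhd.1 T.left.isBasis_affineOpens (U := ⊤) (x := p) trivial
  exact exists_local_aux P hV p hp

variable (T) in
/-- Over a point the element is unique. -/
theorem eq_of_chv_eq (p : T.left) {m n : M}
    (h : ∀ (Y : Over S) (g : Y ⟶ Red.DS S M) (t : Y ⟶ T), Set.range t.left ⊆ {p} →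
      chv g (Multiplicative.ofAdd m) = chv g (Multiplicative.ofAdd n)) : m = n := by
  let K := T.left.residueField p
  let C := MonoidAlgebra K (Multiplicative M)
  let Y : Over S := Over.mk ((Spec.map (CommRingCat.ofHom (algebraMap K C)) ≫ T.left.fromSpecResidueField p) ≫ T.hom)
  let t : Y ⟶ T := Over.homMk (Spec.map (CommRingCat.ofHom (algebraMap K C)) ≫ T.left.fromSpecResidueField p) rfl
  obtain ⟨g, hg⟩ := exists_chv (T := Y) (M := M)
    ((Scheme.ΓSpecIso (CommRingCat.of C)).inv.hom.toMonoidHom.comp (MonoidAlgebra.of _ (Multiplicative M)))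
  have h' := h Y g t (by
    rintro _ ⟨y, rfl⟩
    have := T.left.range_fromSpecResidueField p
    exact this.subset ⟨_, rfl⟩)
  rw [DFunLike.congr_fun hg, DFunLike.congr_fun hg] at h'
  have h'' := congrArg (Scheme.ΓSpecIso (CommRingCat.of C)).hom.hom h'
  have e := fun z => (Scheme.ΓSpecIso (CommRingCat.of C)).inv_hom_id_apply z
  exact Multiplicative.ofAdd.injective (MonoidAlgebra.of_injective (((e _).symm.trans h'').trans (e _)))

end Groth.Agent.DualTw
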